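import Cfsg.Agent.Lib.CoOneThree.Plane

/-!
Elements of order three acting as the rotation of an anisotropic plane.
-/

set_option autoImplicit false
set_option linter.style.haveILetI false

namespace CfsgLib.CoOneThree

open CfsgLib.Extraspecial CfsgLib.CoOneType
open CfsgLib.ConwayFive (e8)

variable {G : Type*} [Group G] [Finite G]

/-- Fixed point of a coprime action: two elements of order three in one coset are conjugate. -/
theorem conj_in {P : Subgroup G} {a b : G} (ha : a * a * a = 1) (hb : b * b * b = 1)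
    (hn : ∀ p ∈ P, a * p * a⁻¹ ∈ P) (hab : b * a⁻¹ ∈ P) (hP : ¬ 3 ∣ Nat.card P) :
    ∃ p ∈ P, p * a * p⁻¹ = b := by
  classical
  haveI : Fact (Nat.Prime 3) := ⟨Nat.prime_three⟩
  haveI := Fintype.ofFinite P
  have hf : ∀ p : P, b * p * a⁻¹ ∈ P := fun p => by
    have := mul_mem hab (hn p p.2)
    rwa [show b * a⁻¹ * (a * p * a⁻¹) = b * p * a⁻¹ by group] at this
  let f : P → P := fun p => ⟨b * p * a⁻¹, hf p⟩
  have h3 : ∀ p, f (f (f p)) = p := fun p => Subtype.ext (by
    show b * (b * (b * p * a⁻¹) * a⁻¹) * a⁻¹ = p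
    rw [show b * (b * (b * p * a⁻¹) * a⁻¹) * a⁻¹ = b * b * b * p * (a * a * a)⁻¹ by group, ha, hb, one_mul,
      inv_one, mul_one])
  let σ : Equiv.Perm P := ⟨f, f ∘ f, h3, h3⟩
  obtain ⟨p, hp⟩ := Equiv.Perm.exists_fixed_point_of_prime (p := 3) (n := 1)
    (by rwa [← Nat.card_eq_fintype_card]) (show σ ^ 3 ^ 1 = 1 from Equiv.Perm.ext fun p => by
      rw [pow_one, pow_succ, pow_succ, pow_one]
      exact h3 p)
  have e : b * (p : G) * a⁻¹ = p := congrArg Subtype.val hp
  refine ⟨p, p.2, ?_⟩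
  calc (p : G) * a * (p : G)⁻¹ = b * p * a⁻¹ * a * (p : G)⁻¹ := by rw [e]
    _ = b := by group

variable {z : G} {R : Subgroup G} {v : G → V8} (H : Co z R v)
include H

theorem not_three {P : Subgroup G} (hP : P ≤ R) : ¬ 3 ∣ Nat.card P := fun h => by
  have h' := h.trans (Subgroup.card_dvd_of_le hP)
  rw [H.card] at h'
  norm_num at h'

theorem pow_four {q : G} (hq : q ∈ R) : q * q * (q * q) = 1 := by
  rcases H.st.sq_cases hq with h | h <;> rw [h]
  · rw [mul_one]
  · exact H.st.zz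

theorem cube_not_mem {x : G} (hx : x * x * x = 1) (hne : x ≠ 1) : x ∉ R := fun hq => by
  have h4 := pow_four H hq
  rw [← mul_assoc (x * x) x x, hx, one_mul] at h4
  exact hne h4

theorem act_cube {x : G} (hxz : x * z = z * x) (hx : x * x * x = 1) {L : CoOneType.Lin}
    (hL : ∀ a ∈ R, v (x * a * x⁻¹) = L (v a)) (w : V8) : L (L (L w)) = w := by
  obtain ⟨a, ha, rfl⟩ := H.surj w
  have h1 := H.conj_mem hxz ha
  rw [← hL a ha, ← hL _ h1, ← hL _ (H.conj_mem hxz h1),
    show x * (x * (x * a * x⁻¹) * x⁻¹) * x⁻¹ = x * x * x * a * (x * x * x)⁻¹ by group, hx, one_mul, inv_one, mul_one]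

/-- Two elements of order three with the same action are conjugate under a subgroup containing their quotient. -/
theorem quot_mem {a b : G} (haz : a * z = z * a) (hbz : b * z = z * b) {f : V8 → V8}
    (hfa : ∀ q ∈ R, v (a * q * a⁻¹) = f (v q)) (hfb : ∀ q ∈ R, v (b * q * b⁻¹) = f (v q)) : b * a⁻¹ ∈ R := by
  refine H.ker _ ((show Commute b z from hbz).mul_left (show Commute a z from haz).inv_left).eq fun q hq => ?_
  have haz' : a⁻¹ * z = z * a⁻¹ := (show Commute a z from haz).inv_left.eq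
  have h1 := H.conj_mem haz' hq
  rw [inv_inv] at h1
  rw [show b * a⁻¹ * q * (b * a⁻¹)⁻¹ = b * (a⁻¹ * q * a) * b⁻¹ by group, hfb _ h1, ← hfa _ h1,
    show a * (a⁻¹ * q * a) * a⁻¹ = q by group]

theorem co_move {M : CoOneType.Lin} (hM : CoOneType.Good M) : Co z R fun a => M (v a) := by
  have hMi : CoOneType.Good M⁻¹ := good_inv hM
  refine ⟨H.st, H.card, fun a ha b hb => ?_, fun a ha => ?_, fun a ha => ?_, fun a ha b hb => ?_, fun w => ?_,
    fun L hL => ?_, fun c hc => ?_, fun c hc h => H.ker c hc fun a ha => M.injective (h a ha), H.nwc⟩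
  · show M (v (a * b)) = M (v a) + M (v b)
    rw [H.mul a ha b hb, ← map_add]; rfl
  · rw [← H.zero a ha]
    exact M.map_eq_zero_iff
  · rw [iso_qf hM.1]; exact H.sq a ha
  · rw [iso_bf hM.1]; exact H.comm a ha b hb
  · obtain ⟨a, ha, e⟩ := H.surj (M.symm w)
    exact ⟨a, ha, by rw [e, M.apply_symm_apply]⟩
  · obtain ⟨c, hc, hcv⟩ := H.real (M⁻¹ * L * M) (good_mul (good_mul hMi hL) hM)
    refine ⟨c, hc, fun a ha => ?_⟩
    rw [hcv a ha]
    exact M.apply_symm_apply _
  · obtain ⟨L, hL, hLv⟩ := H.par c hc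
    refine ⟨M * L * M⁻¹, good_mul (good_mul hM hL) hMi, fun a ha => ?_⟩
    show M (v (c * a * c⁻¹)) = M (L (M.symm (M (v a))))
    rw [M.symm_apply_apply, hLv a ha]
    rfl

/-- An element of order three with small displacement rotates a plane. -/
theorem plane_act {x : G} (hx : x * x * x = 1) (hne : x ≠ 1) (hxz : x * z = z * x)
    (hsmall : ∀ L : CoOneType.Lin, (∀ a ∈ R, v (x * a * x⁻¹) = L (v a)) → CoOneType.Good L → Small L) :
    ∃ M : CoOneType.Lin, CoOneType.Good M ∧ ∀ a ∈ R, v (x * a * x⁻¹) = M (rot (M.symm (v a))) := by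
  obtain ⟨L, hL, hLv⟩ := H.par x hxz
  have hmove : ∃ w, L w ≠ w := by
    by_contra! h
    exact cube_not_mem H hx hne (H.ker x hxz fun a ha => (hLv a ha).trans (h _))
  obtain ⟨r, s, hr, hs, hrs, hall⟩ := plane_of hL.1 (act_cube H hxz hx hLv) hmove (hsmall L hLv hL)
  obtain ⟨M, hM, e1, e2⟩ := exists_move_plane hr hs hrs
  refine ⟨M, hM, fun a ha => ?_⟩
  rw [rot, rotP_map hM.1, e1, e2, M.apply_symm_apply, hLv a ha]
  exact hall _

omit H

/-- An element acting as the standard rotation. -/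
structure Pl (z : G) (R : Subgroup G) (v : G → V8) (x : G) : Prop where
  co : Co z R v
  cube : x * x * x = 1
  xne : x ≠ 1
  xz : x * z = z * x
  act : ∀ a ∈ R, v (x * a * x⁻¹) = rot (v a)

namespace Pl

variable {x : G} (D : Pl z R v x)
include D

/-- elements with the same action are conjugate -/
theorem conj_of_act {c : G} {M : CoOneType.Lin} (hcz : c * z = z * c) (hcv : ∀ a ∈ R, v (c * a * c⁻¹) = M (v a))
    {y : G} (hyz : y * z = z * y) (hy : y * y * y = 1) (hyv : ∀ a ∈ R, v (y * a * y⁻¹) = M (rot (M.symm (v a)))) :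
    ∃ d, d * z = z * d ∧ d * x * d⁻¹ = y := by
  have H := D.co
  have hc : Commute c z := hcz
  have hci : c⁻¹ * z = z * c⁻¹ := hc.inv_left.eq
  have hbz : c * x * c⁻¹ * z = z * (c * x * c⁻¹) := ((hc.mul_left D.xz).mul_left hc.inv_left).eq
  have hbv : ∀ a ∈ R, v (c * x * c⁻¹ * a * (c * x * c⁻¹)⁻¹) = M (rot (M.symm (v a))) := by
    intro a ha
    have h1 := H.conj_mem hci ha
    rw [inv_inv] at h1
    rw [show c * x * c⁻¹ * a * (c * x * c⁻¹)⁻¹ = c * (x * (c⁻¹ * a * c) * x⁻¹) * c⁻¹ by group,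
      hcv _ (H.conj_mem D.xz h1), D.act _ h1]
    have e := hcv _ h1
    rw [show c * (c⁻¹ * a * c) * c⁻¹ = a by group] at e
    rw [e, M.symm_apply_apply]
  obtain ⟨p, hp, e⟩ := conj_in (P := R) (a := c * x * c⁻¹) (b := y)
    (by rw [show c * x * c⁻¹ * (c * x * c⁻¹) * (c * x * c⁻¹) = c * (x * x * x) * c⁻¹ by group, D.cube]; group)
    hy (fun q hq => H.conj_mem hbz hq) (quot_mem H hbz hyz (f := fun w => M (rot (M.symm w))) hbv hyv) (not_three H le_rfl)
  refine ⟨p * c, ((show Commute p z from H.commute_z hp).mul_left hc).eq, ?_⟩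
  rw [show p * c * x * (p * c)⁻¹ = p * (c * x * c⁻¹) * p⁻¹ by group]
  exact e

theorem v_fix {a : G} (ha : a ∈ R) (h : Commute x a) : inj (crd (v a)) = v a := by
  have e := D.act a ha
  rw [h.eq, mul_inv_cancel_right] at e
  exact (fun hf => perp_eq hf.1 hf.2) (rot_eq_self.mp e.symm)

theorem commute_of_perp {a : G} (ha : a ∈ R) (h1 : bf (v a) sa = false) (h2 : bf (v a) ra = false) :
    Commute x a := by
  have H := D.co
  have e := (D.act a ha).trans (rot_eq_self.mpr ⟨h1, h2⟩)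
  rcases H.eq_or (H.conj_mem D.xz ha) ha e with e | e
  · exact mul_inv_eq_iff_eq_mul.mp e
  · exfalso
    have hz' : x * z * x⁻¹ = z := by rw [D.xz, mul_inv_cancel_right]
    have e3 : x * x * x * a * (x * x * x)⁻¹ = z * a := by
      rw [show x * x * x * a * (x * x * x)⁻¹ = x * (x * (x * a * x⁻¹) * x⁻¹) * x⁻¹ by group, e,
        show x * (z * a) * x⁻¹ = x * z * x⁻¹ * (x * a * x⁻¹) by group, hz', e, ← mul_assoc z z a, H.st.zz, one_mul, e]
    rw [D.cube, inv_one, one_mul, mul_one] at e3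
    exact H.st.ne_one (mul_eq_right.mp e3.symm)

/-- preimages of the six-dimensional space -/
theorem exists_fixed (u : SuzType.V6) : ∃ a ∈ R, Commute x a ∧ v a = inj u := by
  obtain ⟨a, ha, e⟩ := D.co.surj (inj u)
  exact ⟨a, ha, D.commute_of_perp ha (e ▸ (inj_perp u).1) (e ▸ (inj_perp u).2.1), e⟩

/-- realisation in the centraliser -/
theorem exists_cent {M : CoOneType.Lin} (hM : CoOneType.Good M) (h : ∀ w, M (rot w) = rot (M w)) :
    ∃ c, c * z = z * c ∧ Commute c x ∧ ∀ a ∈ R, v (c * a * c⁻¹) = M (v a) := by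
  have H := D.co
  obtain ⟨c, hc, hcv⟩ := H.real M hM
  replace hcv : ∀ a ∈ R, v (c * a * c⁻¹) = M (v a) := hcv
  have hc' : Commute c z := hc
  have hci : c⁻¹ * z = z * c⁻¹ := hc'.inv_left.eq
  have hbz : c * x * c⁻¹ * z = z * (c * x * c⁻¹) := ((hc'.mul_left D.xz).mul_left hc'.inv_left).eq
  have hbv : ∀ a ∈ R, v (c * x * c⁻¹ * a * (c * x * c⁻¹)⁻¹) = rot (v a) := by
    intro a ha
    have h1 := H.conj_mem hci ha
    rw [inv_inv] at h1
    rw [show c * x * c⁻¹ * a * (c * x * c⁻¹)⁻¹ = c * (x * (c⁻¹ * a * c) * x⁻¹) * c⁻¹ by group,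
      hcv _ (H.conj_mem D.xz h1), D.act _ h1, h, ← hcv _ h1, show c * (c⁻¹ * a * c) * c⁻¹ = a by group]
  obtain ⟨p, hp, e⟩ := conj_in (P := R) (a := c * x * c⁻¹) (b := x)
    (by rw [show c * x * c⁻¹ * (c * x * c⁻¹) * (c * x * c⁻¹) = c * (x * x * x) * c⁻¹ by group, D.cube]; group)
    D.cube (fun q hq => H.conj_mem hbz hq) (quot_mem H hbz D.xz hbv D.act) (not_three H le_rfl)
  refine ⟨p * c, ((show Commute p z from H.commute_z hp).mul_left hc').eq, ?_, fun a ha => ?_⟩
  · refine mul_inv_eq_iff_eq_mul.mp ?_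
    rw [show p * c * x * (p * c)⁻¹ = p * (c * x * c⁻¹) * p⁻¹ by group]
    exact e
  · rw [show p * c * a * (p * c)⁻¹ = p * (c * a * c⁻¹) * p⁻¹ by group, H.v_inner hp (H.conj_mem hc ha), hcv a ha]

/-- an element of the centraliser, corrected to fix the plane -/
theorem exists_adjust {c : G} (hcz : c * z = z * c) (hcx : Commute c x) :
    ∃ (d : G) (n : G) (M : CoOneType.Lin), n ∈ Subgroup.zpowers x ∧ d = c * n ∧ d * z = z * d ∧ Commute d x ∧
      CoOneType.Good M ∧ M ra = ra ∧ M sa = sa ∧ ∀ a ∈ R, v (d * a * d⁻¹) = M (v a) := by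
  have H := D.co
  obtain ⟨L, hL, hLv⟩ := H.par c hcz
  obtain ⟨X, hX, hXv⟩ := H.par x D.xz
  replace hLv : ∀ a ∈ R, v (c * a * c⁻¹) = L (v a) := hLv
  replace hXv : ∀ a ∈ R, v (x * a * x⁻¹) = X (v a) := hXv
  have hXr : ∀ w, X w = rot w := fun w => by
    obtain ⟨a, ha, rfl⟩ := H.surj w
    exact (hXv a ha).symm.trans (D.act a ha)
  have hrotc : ∀ w, L (rot w) = rot (L w) := by
    intro w
    obtain ⟨a, ha, rfl⟩ := H.surj w
    have hLv' : ∀ a ∈ R, L (v a) = v (c * a * c⁻¹) := fun a ha => (hLv a ha).symm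
    rw [← D.act a ha, hLv' _ (H.conj_mem D.xz ha), hLv' a ha, ← D.act _ (H.conj_mem hcz ha),
      show c * (x * a * x⁻¹) * c⁻¹ = c * x * a * (c * x)⁻¹ by group,
      show x * (c * a * c⁻¹) * x⁻¹ = x * c * a * (x * c)⁻¹ by group, hcx.eq]
  have hperp : ∀ u, bf (inj u) (L ra) = false := by
    intro u
    set u' := L.symm (inj u) with hu'
    have hfix : rot u' = u' := by
      refine L.injective ?_
      rw [hrotc, hu', L.apply_symm_apply, rot_eq_self.mpr ⟨(inj_perp u).1, (inj_perp u).2.1⟩]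
    rw [← L.apply_symm_apply (inj u), ← hu', iso_bf hL.1]
    exact (rot_eq_self.mp hfix).2
  have hLr : L ra = ra ∨ L ra = sa ∨ L ra = ra + sa := by
    have h0 : crd (L ra) = 0 := by
      by_contra hne
      obtain ⟨b, hb⟩ := SuzType.exists_bf _ hne
      have h1 := hperp b
      rw [← decomp (L ra), bf_xor_right, inj_bf] at h1
      have h2 : bf (inj b) (pv (bf (L ra) sa) (bf (L ra) ra)) = false := by
        cases bf (L ra) sa <;> cases bf (L ra) ra <;>
          simp [pv, bf_xor_right, bf_zero_right, (inj_perp b).1, (inj_perp b).2.1]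
      rw [h2, SuzType.bf_comm, hb] at h1
      exact absurd h1 (by simp)
    have h1 := decomp (L ra)
    rw [h0, base_facts.2.1, zero_add] at h1
    have hne : L ra ≠ 0 := fun e => by
      have := congrArg qf e
      rw [iso_qf hL.1, base_facts.2.2.2.2.2.2.2.2.1, qf_zero] at this
      exact Bool.false_ne_true this.symm
    rw [← h1] at hne ⊢
    revert hne
    cases bf (L ra) sa <;> cases bf (L ra) ra <;> intro hne
    · exact absurd base_facts.1 hne
    · exact Or.inr (Or.inl base_facts.2.2.2.1)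
    · exact Or.inl base_facts.2.2.1
    · exact Or.inr (Or.inr (by simp [pv]))
  obtain ⟨o1, o2, o3, -⟩ := plane_orbit
  have finish : ∀ (n : G) (M : CoOneType.Lin), n ∈ Subgroup.zpowers x → CoOneType.Good M →
      (∀ a ∈ R, v (c * n * a * (c * n)⁻¹) = M (v a)) → (∀ w, M (rot w) = rot (M w)) → M ra = ra →
      ∃ (d : G) (n : G) (M : CoOneType.Lin), n ∈ Subgroup.zpowers x ∧ d = c * n ∧ d * z = z * d ∧ Commute d x ∧
        CoOneType.Good M ∧ M ra = ra ∧ M sa = sa ∧ ∀ a ∈ R, v (d * a * d⁻¹) = M (v a) := by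
    intro n M hn hM hMv hMc hMr
    obtain ⟨m, rfl⟩ := Subgroup.mem_zpowers_iff.mp hn
    refine ⟨_, _, M, hn, rfl, ?_, hcx.mul_left ((Commute.refl x).zpow_left m), hM, hMr, ?_, hMv⟩
    · exact ((show Commute c z from hcz).mul_left ((show Commute x z from D.xz).zpow_left m)).eq
    · rw [← o1, hMc, hMr]
  have hX2 : ∀ a ∈ R, v (x * x * a * (x * x)⁻¹) = X (X (v a)) := fun a ha => by
    rw [show x * x * a * (x * x)⁻¹ = x * (x * a * x⁻¹) * x⁻¹ by group, hXv _ (H.conj_mem D.xz ha), hXv a ha]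
  rcases hLr with e | e | e
  · exact finish 1 L (one_mem _) hL (fun a ha => by rw [mul_one]; exact hLv a ha) hrotc e
  · refine finish (x * x) (L * (X * X)) (mul_mem (Subgroup.mem_zpowers x) (Subgroup.mem_zpowers x))
      (good_mul hL (good_mul hX hX)) (fun a ha => ?_) (fun w => ?_) ?_
    · have h1 : x * x * a * (x * x)⁻¹ ∈ R := H.conj_mem ((show Commute x z from D.xz).mul_left D.xz).eq ha
      rw [show c * (x * x) * a * (c * (x * x))⁻¹ = c * (x * x * a * (x * x)⁻¹) * c⁻¹ by group, hLv _ h1, hX2 a ha]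
      rfl
    · show L (X (X (rot w))) = rot (L (X (X w)))
      rw [hXr, hXr, hXr, hXr, hrotc]
    · show L (X (X ra)) = ra
      rw [hXr, hXr, hrotc, hrotc, e, o2, o3]
  · refine finish x (L * X) (Subgroup.mem_zpowers x) (good_mul hL hX) (fun a ha => ?_) (fun w => ?_) ?_
    · rw [show c * x * a * (c * x)⁻¹ = c * (x * a * x⁻¹) * c⁻¹ by group, hLv _ (H.conj_mem D.xz ha), hXv a ha]
      rfl
    · show L (X (rot w)) = rot (L (X w))
      rw [hXr, hXr, hrotc]
    · show L (X ra) = ra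
      rw [hXr, hrotc, e, o3]

end Pl

end CfsgLib.CoOneThree
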