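import Cfsg.Agent.Lib.CoOneThree.Lift
import Cfsg.Agent.Lib.CoOneType.Frame

/-!
The involution is moved inside the centraliser of the element of order three.
-/

set_option autoImplicit false
set_option linter.style.haveILetI false

namespace CfsgLib.CoOneThree

open CfsgLib.Extraspecial CfsgLib.Extraspecial.Pair CfsgLib.CoOneType
open CfsgLib.SuzType (V6 cb)

theorem class_facts : Nat.card {w : V6 // SuzType.bf 1 w = false ∧ cb w 0 = false} = 16 ∧
    (∀ w w' : V6, cb w 0 = false → cb w' 0 = false → w ≠ SuzType.xr w' 1) ∧ inj 1 ≠ 0 ∧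
    qf (inj 1) = false ∧ bf (inj 1) (inj 2) = true := by
  rw [Nat.card_eq_fintype_card]
  decide +kernel

theorem inj_injective {a b : V6} (h : inj a = inj b) : a = b := by
  rw [← (inj_perp a).2.2, h, (inj_perp b).2.2]

variable {G : Type*} [Group G] [Finite G] {z : G} {R : Subgroup G} {v : G → V8} {x : G}

theorem Pl.exists_moved (D : Pl z R v x) : ∃ g : G, Commute g x ∧ g * z * g⁻¹ ∈ R ∧ g * z * g⁻¹ ≠ z := by
  classical
  have H := D.co
  obtain ⟨hcardW, hsep, hone, hq1, hb12⟩ := class_facts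
  obtain ⟨a, ha, hax, hva⟩ := D.exists_fixed 1
  obtain ⟨u, hu, hux, hvu⟩ := D.exists_fixed 2
  have ha2 : a * a = 1 := (H.sq a ha).mp (hva ▸ hq1)
  have ha1 : a ≠ 1 := fun e => hone (by rw [← hva, e, H.v_one])
  have haz : a ≠ z := fun e => hone (by rw [← hva, e, H.v_z])
  obtain ⟨g, hg, pr⟩ := H.exists_pair ha ha2 ha1 haz
  have hus : u * (g * z * g⁻¹) * u⁻¹ = z * (g * z * g⁻¹) := by
    rw [hg]
    refine (H.st.comm_cases hu ha).resolve_left fun e => ?_
    have := (H.comm u hu a ha).mpr (mul_inv_eq_iff_eq_mul.mp e)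
    rw [hvu, hva, bf_comm, hb12] at this
    exact Bool.false_ne_true this.symm
  have F : Fr z R v g u := ⟨H, pr, hu, hus⟩
  have hsv : v (g * z * g⁻¹) = inj 1 := by rw [hg, hva]
  have hxz : Commute x z := D.xz
  have hxV : x ∈ Subgroup.centralizer (V z g : Set G) :=
    pr.mem_centralizer_V.mpr ⟨D.xz, hg.symm ▸ hax.eq⟩
  have hxR' := (Subgroup.mem_inf.mp (pr.centralizer_V_le hxV)).2
  have hVx : ∀ e ∈ V z g, Commute x e := fun e he => (Subgroup.mem_centralizer_iff.mp hxV e he).symm
  have hV2 : ∀ e ∈ V z g, e * e = 1 := by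
    intro e he
    rcases pr.mem_V.mp he with rfl | rfl | rfl | rfl
    · rw [one_mul]
    · exact H.st.zz
    · exact pr.s'.zz
    · rw [mul_assoc, ← mul_assoc (g * z * g⁻¹), ← pr.comm, mul_assoc z, pr.s'.zz, mul_one, H.st.zz]
  have halV : ∀ {y e : G}, y ∈ P' R z g → e ∈ P' R z g → e ∈ V z g →
      Eqm (v (g * z * g⁻¹)) (v (al u (y * e))) (v (al u y)) := by
    intro y e hy he hev
    have h1 : Eqm (v (g * z * g⁻¹)) (v (al u e)) 0 :=
      F.v_mem_V (mul_mem (F.conj_u' hev) (inv_mem hev))
    have h2 := Eqm.xr (Eqm.refl (v (g * z * g⁻¹)) (v (al u y))) h1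
    rw [xr_zero] at h2
    exact (F.v_al_mul hy he).trans h2
  have hy : ∀ w : {w : V6 // SuzType.bf 1 w = false ∧ cb w 0 = false},
      ∃ y ∈ P' R z g, Commute x y ∧ Eqm (inj 1) (inj w.1) (v (al u y)) := by
    intro w
    obtain ⟨y, hy, hyw⟩ := F.al_surj (w := inj w.1) (by rw [hsv, inj_bf, SuzType.bf_comm]; exact w.2.1)
    rw [hsv] at hyw
    refine ⟨y, hy, ?_, hyw⟩
    set y' := x * y * x⁻¹ with hy'
    have hy'P : y' ∈ P' R z g := F.mem_P'.mpr
      ⟨(Subgroup.mem_normalizer_iff.mp hxR' y).mp (F.mem_P'.mp hy).1,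
        ((hxz.mul_left (show Commute y z from (F.mem_P'.mp hy).2)).mul_left hxz.inv_left).eq⟩
    have hal : v (al u y') = v (al u y) := by
      have e : al u y' = x * al u y * x⁻¹ := by
        rw [hy', al, al]
        calc u * (x * y * x⁻¹) * u⁻¹ * (x * y * x⁻¹)⁻¹
            = (u * x) * y * (u * x)⁻¹ * (x * y⁻¹ * x⁻¹) := by group
          _ = (x * u) * y * (x * u)⁻¹ * (x * y⁻¹ * x⁻¹) := by rw [hux.eq]
          _ = _ := by group
      rw [e, D.act _ (F.mem_P.mp (F.al_mem hy)).1]
      obtain ⟨u', hu'⟩ : ∃ u', v (al u y) = inj u' := by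
        rcases hyw.symm with e | e
        · exact ⟨_, e⟩
        · exact ⟨SuzType.xr w.1 1, by rw [e, inj_add]; rfl⟩
      rw [hu', rot_eq_self.mpr ⟨(inj_perp u').1, (inj_perp u').2.1⟩]
    set e := y⁻¹ * y' with he
    have heP : e ∈ P' R z g := mul_mem (inv_mem hy) hy'P
    have heV : e ∈ V z g := by
      refine F.al_inj heP ?_
      have h1 := F.v_al_mul (inv_mem hy) hy'P
      have h2 := Eqm.xr (F.al_inv hy) (Eqm.refl (v (g * z * g⁻¹)) (v (al u y')))
      rw [hal, xr_self] at h2
      rw [hal] at h1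
      exact h1.trans h2
    have hye : x * y * x⁻¹ = y * e := by rw [he, hy', mul_inv_cancel_left]
    have hce : x * e * x⁻¹ = e := by rw [(hVx e heV).eq, mul_inv_cancel_right]
    have h3 : y = y * (e * e * e) := by
      calc y = x * x * x * y * (x * x * x)⁻¹ := by rw [D.cube]; group
        _ = x * (x * (x * y * x⁻¹) * x⁻¹) * x⁻¹ := by group
        _ = y * (e * e * e) := by
          rw [hye, show x * (y * e) * x⁻¹ = (x * y * x⁻¹) * (x * e * x⁻¹) by group, hye, hce,
            show x * (y * e * e) * x⁻¹ = (x * y * x⁻¹) * (x * e * x⁻¹) * (x * e * x⁻¹) by group, hye, hce]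
          simp only [mul_assoc]
    have he1 : e = 1 := by
      have := mul_eq_left.mp h3.symm
      rwa [hV2 e heV, one_mul] at this
    exact mul_inv_eq_iff_eq_mul.mp (by rw [hye, he1, mul_one])
  choose Y hYP hYx hYv using hy
  -- the conjugated element
  set x' := g⁻¹ * x * g with hx'
  have hx'z : x' * z = z * x' := by
    have hxa : Commute x (g * z * g⁻¹) := hg.symm ▸ hax
    have := hxa.map (MulAut.conj g⁻¹)
    rw [MulAut.conj_apply, MulAut.conj_apply, inv_inv, show g⁻¹ * (g * z * g⁻¹) * g = z by group] at this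
    exact this.eq
  have hx'3 : x' * x' * x' = 1 := by
    rw [hx', show g⁻¹ * x * g * (g⁻¹ * x * g) * (g⁻¹ * x * g) = g⁻¹ * (x * x * x) * g by group, D.cube]; group
  have hx'1 : x' ≠ 1 := fun e => D.xne (by
    rw [show x = g * x' * g⁻¹ by rw [hx']; group, e]; group)
  have hsmall : ∀ L : CoOneType.Lin, (∀ a ∈ R, v (x' * a * x'⁻¹) = L (v a)) → CoOneType.Good L → CoOneType.Small L := by
    intro L hLv hLg
    let W := {w : V6 // SuzType.bf 1 w = false ∧ cb w 0 = false}
    let k : W × Bool → G := fun p => Y p.1 * cond p.2 z 1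
    have hk : ∀ p, k p ∈ Subgroup.map (MulAut.conj g).toMonoidHom R ∧ Commute x (k p) := by
      intro p
      refine ⟨mul_mem (F.mem_P'.mp (hYP p.1)).1 ?_, (hYx p.1).mul_right ?_⟩
      · cases p.2
        · exact one_mem _
        · exact pr.mem'
      · cases p.2
        · exact Commute.one_right x
        · exact hxz
    have hq : ∀ p, g⁻¹ * k p * g ∈ R := fun p => by
      obtain ⟨q, hq, e⟩ := (hk p).1
      change g * q * g⁻¹ = k p at e
      rwa [← e, show g⁻¹ * (g * q * g⁻¹) * g = q by group]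
    let f : W × Bool → {w : V8 // L w = w} := fun p => ⟨v (g⁻¹ * k p * g), by
      rw [← hLv _ (hq p), hx', show g⁻¹ * x * g * (g⁻¹ * k p * g) * (g⁻¹ * x * g)⁻¹ = g⁻¹ * (x * k p * x⁻¹) * g by group,
        (hk p).2.eq, mul_inv_cancel_right]⟩
    have hf : Function.Injective f := by
      rintro ⟨w, b⟩ ⟨w', b'⟩ e
      have e' : v (g⁻¹ * k (w, b) * g) = v (g⁻¹ * k (w', b') * g) := congrArg Subtype.val e
      obtain ⟨c, hc, hkc⟩ : ∃ c, (c = 1 ∨ c = g * z * g⁻¹) ∧ Y w * cond b z 1 = c * (Y w' * cond b' z 1) := by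
        rcases H.eq_or (hq (w, b)) (hq (w', b')) e' with h | h
        · exact ⟨1, Or.inl rfl, by
            rw [one_mul]
            exact mul_left_cancel (mul_right_cancel h)⟩
        · refine ⟨g * z * g⁻¹, Or.inr rfl, ?_⟩
          have h' := congrArg (fun t => g * t * g⁻¹) h
          simp only [k] at h'
          calc Y w * cond b z 1 = g * (g⁻¹ * (Y w * cond b z 1) * g) * g⁻¹ := by group
            _ = g * (z * (g⁻¹ * (Y w' * cond b' z 1) * g)) * g⁻¹ := h'
            _ = _ := by group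
      have hzV : ∀ i : Bool, cond i z 1 ∈ V z g := fun i => by
        cases i
        · exact one_mem _
        · exact pr.mem_V.mpr (Or.inr (Or.inl rfl))
      have hcV : c ∈ V z g := by
        rcases hc with rfl | rfl
        · exact one_mem _
        · exact pr.mem_V.mpr (Or.inr (Or.inr (Or.inl rfl)))
      have hcy : Commute c (Y w') := by
        rcases hc with rfl | rfl
        · exact Commute.one_left _
        · exact (F.P'_comm (hYP w')).symm
      set d := c * cond b' z 1 * (cond b z 1)⁻¹ with hd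
      have hdV : d ∈ V z g := mul_mem (mul_mem hcV (hzV b')) (inv_mem (hzV b))
      have hwd : Y w = Y w' * d := by
        rw [hd, ← mul_assoc, ← mul_assoc, ← hcy.eq, mul_assoc c (Y w'), ← hkc, mul_inv_cancel_right]
      have hdP : d ∈ P' R z g := by
        have : d = (Y w')⁻¹ * Y w := by rw [hwd, inv_mul_cancel_left]
        exact this ▸ mul_mem (inv_mem (hYP w')) (hYP w)
      have h1 := halV (hYP w') hdP hdV
      rw [← hwd, hsv] at h1
      have h2 : Eqm (inj 1) (inj w.1) (inj w'.1) := ((hYv w).trans h1).trans (hYv w').symm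
      have hww : w = w' := by
        rcases h2 with h | h
        · exact Subtype.ext (inj_injective h)
        · refine absurd (inj_injective (h.trans ?_)) (hsep w.1 w'.1 w.2.2 w'.2.2)
          rw [inj_add]; rfl
      subst hww
      have hd1 : d = 1 := mul_eq_left.mp hwd.symm
      rw [hd, mul_inv_eq_one] at hd1
      refine Prod.ext rfl ?_
      show b = b'
      rcases hc with rfl | rfl <;> cases b <;> cases b' <;>
        simp only [cond_false, cond_true, mul_one, one_mul] at hd1 <;> first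
        | rfl
        | exact absurd hd1 H.st.ne_one
        | exact absurd hd1.symm H.st.ne_one
        | exact absurd hd1 pr.ne_one'
        | exact absurd hd1 pr.ne
        | exact absurd (show z * (g * z * g⁻¹) = 1 from (by rw [pr.comm]; exact hd1)) pr.mul_ne_one
        | exact absurd (mul_eq_right.mp hd1) pr.ne_one'
    have hn := Nat.card_le_card_of_injective f hf
    rw [Nat.card_prod, hcardW, Nat.card_eq_fintype_card (α := Bool), Fintype.card_bool] at hn
    have h1 := card_eq L
    obtain ⟨j, hj, hj'⟩ := hLg.2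
    unfold CoOneType.nfix at h1 hj'
    unfold CoOneType.Small
    obtain ⟨i, rfl⟩ := hj
    rw [hj'] at h1 hn
    have h9 : i < 5 := by
      by_contra h5
      have h2 : 2 ^ 10 ≤ 2 ^ (i + i) := Nat.pow_le_pow_right (by norm_num) (by omega)
      have h3 : 0 < Nat.card (del L).range := Nat.card_pos
      nlinarith
    generalize Nat.card (del L).range = N at h1 ⊢
    interval_cases i <;> norm_num at h1 hn <;> omega
  obtain ⟨M, hM, hMv⟩ := plane_act H hx'3 hx'1 hx'z hsmall
  obtain ⟨c, hc, hcv⟩ := H.real M hM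
  obtain ⟨d, hdz, hdx⟩ := D.conj_of_act hc hcv hx'z hx'3 hMv
  have hz' : d * z * d⁻¹ = z := by rw [hdz, mul_inv_cancel_right]
  have e : g * d * z * (g * d)⁻¹ = a := by
    rw [show g * d * z * (g * d)⁻¹ = g * (d * z * d⁻¹) * g⁻¹ by group, hz', hg]
  refine ⟨g * d, mul_inv_eq_iff_eq_mul.mp ?_, e ▸ ha, e ▸ haz⟩
  rw [show g * d * x * (g * d)⁻¹ = g * (d * x * d⁻¹) * g⁻¹ by group, hdx, hx']
  group

end CfsgLib.CoOneThree
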