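import Cfsg.Agent.Lib.CoOneThree.Quot
import Cfsg.Agent.Lib.SuzUnique.Main
import Cfsg.Agent.Lib.SuzThree.Quasi

/-!
The centraliser is quasisimple.
-/

set_option autoImplicit false
set_option linter.style.haveILetI false

namespace CfsgLib.CoOneThree

open CfsgLib.Extraspecial CfsgLib.CoOneType
open scoped commutatorElement

theorem rot_facts : (∀ k : Fin 256, rotP rb sb (rotP rb sb (rotP rb sb (ConwayFive.dec8 k))) = ConwayFive.dec8 k) ∧
    SuzType.Good SuzThree.L0 := by decide +kernel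

theorem rotb_cube (w : V8) : rotP rb sb (rotP rb sb (rotP rb sb w)) = w := by
  obtain ⟨k, rfl⟩ := ConwayFive.dec8_surj w
  exact rot_facts.1 k

theorem rotb_inv (w : V8) : rotP rb sb (rotP sb rb w) = w := by
  obtain ⟨k, rfl⟩ := ConwayFive.dec8_surj w
  exact rotb_facts.1 k

theorem extF_L0 (w : V8) : extF SuzThree.L0 w = rotP rb sb w := by
  obtain ⟨k, rfl⟩ := ConwayFive.dec8_surj w
  exact rotb_facts.2.1 k

variable {G : Type*} [Group G] [Finite G] {z : G} {R : Subgroup G} {v : G → V8} {x : G}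

theorem Pl.exists_partner_three (D : Pl z R v x) : ∃ w : G, w * z = z * w ∧ Commute w x ∧ w * w * w = 1 ∧
    ∀ a ∈ R, v (w * a * w⁻¹) = rotP rb sb (v a) := by
  have H := D.co
  obtain ⟨M, hM, hMe⟩ := exists_ext rot_facts.2
  obtain ⟨c, hcz, hcx, hcv⟩ := D.exists_cent hM (fun w => by rw [hMe, hMe, extF_rot])
  have hcv' : ∀ a ∈ R, v (c * a * c⁻¹) = rotP rb sb (v a) := fun a ha => by
    rw [hcv a ha, hMe, extF_L0]
  have hcz' : Commute c z := hcz
  have hq : c * c * c ∈ R := by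
    refine H.ker _ ((hcz'.mul_left hcz).mul_left hcz).eq fun a ha => ?_
    have h1 := H.conj_mem hcz ha
    rw [show c * c * c * a * (c * c * c)⁻¹ = c * (c * (c * a * c⁻¹) * c⁻¹) * c⁻¹ by group,
      hcv' _ (H.conj_mem hcz h1), hcv' _ h1, hcv' a ha, rotb_cube]
  refine ⟨c * c * c * c, (((hcz'.mul_left hcz).mul_left hcz).mul_left hcz).eq,
    ((hcx.mul_left hcx).mul_left hcx).mul_left hcx, ?_, fun a ha => ?_⟩
  · have h4 := pow_four H hq
    simp only [mul_assoc] at h4 ⊢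
    exact h4
  · rw [show c * c * c * c * a * (c * c * c * c)⁻¹ = c * c * c * (c * a * c⁻¹) * (c * c * c)⁻¹ by group,
      H.v_inner hq (H.conj_mem hcz ha), hcv' a ha]

/-- An element exchanging the two elements of order three. -/
theorem Pl.exists_exchange (D : Pl z R v x) {w : G} (hwz : w * z = z * w) (hwx : Commute w x) (hw : w * w * w = 1)
    (hwv : ∀ a ∈ R, v (w * a * w⁻¹) = rotP rb sb (v a)) : ∃ e : G, e * x * e⁻¹ = w ∧ e * w * e⁻¹ = x := by
  have H := D.co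
  obtain ⟨M, hM, m1, m2, m3, m4⟩ := exists_swap_planes
  obtain ⟨c, hc, hcv⟩ := H.real M hM
  replace hcv : ∀ a ∈ R, v (c * a * c⁻¹) = M (v a) := hcv
  have hMr : ∀ u, M (rot u) = rotP rb sb (M u) := fun u => by rw [rot, rotP_map hM.1, m1, m2]
  have hMb : ∀ u, M (rotP rb sb u) = rot (M u) := fun u => by rw [rot, rotP_map hM.1, m3, m4]
  obtain ⟨d, hdz, hdx⟩ := D.conj_of_act hc hcv hwz hw fun a ha => by
    rw [hwv a ha, hMr, M.apply_symm_apply]
  -- the action of the conjugating element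
  obtain ⟨L, hL, hLv⟩ := H.par d hdz
  replace hLv : ∀ a ∈ R, v (d * a * d⁻¹) = L (v a) := hLv
  have hLr : ∀ u, L (rot u) = rotP rb sb (L u) := fun u => by
    obtain ⟨a, ha, rfl⟩ := H.surj u
    rw [← D.act a ha, ← hLv _ (H.conj_mem D.xz ha), ← hLv a ha, ← hwv _ (H.conj_mem hdz ha), ← hdx]
    congr 1
    group
  set y := c * w * c⁻¹ with hy
  have hc' : Commute c z := hc
  have hci : c⁻¹ * z = z * c⁻¹ := hc'.inv_left.eq
  have hyz : y * z = z * y := ((hc'.mul_left hwz).mul_left hc'.inv_left).eq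
  have hyv : ∀ a ∈ R, v (y * a * y⁻¹) = rot (v a) := by
    intro a ha
    have h1 := H.conj_mem hci ha
    rw [inv_inv] at h1
    rw [hy, show c * w * c⁻¹ * a * (c * w * c⁻¹)⁻¹ = c * (w * (c⁻¹ * a * c) * w⁻¹) * c⁻¹ by group,
      hcv _ (H.conj_mem hwz h1), hwv _ h1, hMb, ← hcv _ h1]
    congr 2
    group
  have hbz : c * x * c⁻¹ * z = z * (c * x * c⁻¹) := ((hc'.mul_left D.xz).mul_left hc'.inv_left).eq
  have hbv : ∀ a ∈ R, v (c * x * c⁻¹ * a * (c * x * c⁻¹)⁻¹) = rotP rb sb (v a) := by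
    intro a ha
    have h1 := H.conj_mem hci ha
    rw [inv_inv] at h1
    rw [show c * x * c⁻¹ * a * (c * x * c⁻¹)⁻¹ = c * (x * (c⁻¹ * a * c) * x⁻¹) * c⁻¹ by group,
      hcv _ (H.conj_mem D.xz h1), D.act _ h1, hMr, ← hcv _ h1]
    congr 2
    group
  have cube : ∀ g t : G, t * t * t = 1 → g * t * g⁻¹ * (g * t * g⁻¹) * (g * t * g⁻¹) = 1 := fun g t h => by
    rw [show g * t * g⁻¹ * (g * t * g⁻¹) * (g * t * g⁻¹) = g * (t * t * t) * g⁻¹ by group, h]; group
  obtain ⟨p, hp, hpe⟩ := conj_in (P := R) (cube c x D.cube) hw (fun q hq => H.conj_mem hbz hq)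
    (quot_mem H hbz hwz hbv hwv) (not_three H le_rfl)
  -- the second correction
  have hd1 : p * c * x * (p * c)⁻¹ = w := by rw [← hpe]; group
  set y2 := p * c * w * (p * c)⁻¹ with hy2
  have hy2w : Commute y2 w := by
    have := hwx.map (MulAut.conj (p * c))
    rwa [MulAut.conj_apply, MulAut.conj_apply, hd1] at this
  have hpz : Commute p z := H.commute_z hp
  have hy2z : y2 * z = z * y2 := (((hpz.mul_left hc').mul_left hwz).mul_left (hpz.mul_left hc').inv_left).eq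
  have hy2v : ∀ a ∈ R, v (y2 * a * y2⁻¹) = rot (v a) := by
    intro a ha
    have h1 := H.conj_mem (hpz.inv_left.eq) ha
    rw [inv_inv] at h1
    rw [hy2, show p * c * w * (p * c)⁻¹ * a * (p * c * w * (p * c)⁻¹)⁻¹ = p * (y * (p⁻¹ * a * p) * y⁻¹) * p⁻¹ by
      rw [hy]; group, H.v_inner hp (H.conj_mem hyz h1), hyv _ h1]
    have := H.v_inner (inv_mem hp) ha
    rw [inv_inv] at this
    rw [this]
  obtain ⟨q, hq, hqe⟩ := conj_in (P := R ⊓ Subgroup.centralizer ({w} : Set G)) (cube (p * c) w hw) D.cube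
    (fun s hs => by
      refine Subgroup.mem_inf.mpr ⟨H.conj_mem hy2z (Subgroup.mem_inf.mp hs).1, ?_⟩
      have hsw : Commute s w := Subgroup.mem_centralizer_singleton_iff.mp (Subgroup.mem_inf.mp hs).2
      exact Subgroup.mem_centralizer_singleton_iff.mpr ((hy2w.mul_left hsw).mul_left hy2w.inv_left).eq)
    (Subgroup.mem_inf.mpr ⟨quot_mem H hy2z D.xz hy2v D.act,
      Subgroup.mem_centralizer_singleton_iff.mpr (hwx.symm.mul_left hy2w.inv_left).eq⟩)
    (not_three H inf_le_left)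
  have hqw : Commute q w := Subgroup.mem_centralizer_singleton_iff.mp (Subgroup.mem_inf.mp hq).2
  refine ⟨q * (p * c), ?_, ?_⟩
  · rw [show q * (p * c) * x * (q * (p * c))⁻¹ = q * (p * c * x * (p * c)⁻¹) * q⁻¹ by group, hd1, hqw.eq,
      mul_inv_cancel_right]
  · rw [show q * (p * c) * w * (q * (p * c))⁻¹ = q * y2 * q⁻¹ by rw [hy2]; group]
    exact hqe

theorem Pl.main (D : Pl z R v x) {B : Subgroup G} (hB : B = Subgroup.zpowers x)
    [(B.subgroupOf (Subgroup.centralizer (B : Set G))).Normal] :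
    Cfsg.IsQuasisimple ↥(Subgroup.centralizer (B : Set G)) ∧
      Cfsg.Spor.IsoSuz (↥(Subgroup.centralizer (B : Set G)) ⧸ B.subgroupOf (Subgroup.centralizer (B : Set G))) := by
  classical
  have H := D.co
  set C := Subgroup.centralizer (B : Set G) with hC
  set N := B.subgroupOf C with hN
  set mk : ↥C →* ↥C ⧸ N := QuotientGroup.mk' N with hmk
  obtain ⟨hzC, Rb, vb, co, hR, hRex⟩ : ∃ (hz : z ∈ C) (Rb : Subgroup (↥C ⧸ N)) (vb : ↥C ⧸ N → SuzType.V6),
      SuzType.Co (mk ⟨z, hz⟩) Rb vb ∧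
        (∀ a (ha : a ∈ C), a ∈ R → mk ⟨a, ha⟩ ∈ Rb ∧ vb (mk ⟨a, ha⟩) = crd (v a)) ∧
        ∀ y ∈ Rb, ∃ a, ∃ ha : a ∈ C, a ∈ R ∧ mk ⟨a, ha⟩ = y := D.exists_quot hB
  have iso := CfsgLib.SuzUnique.isoSuz co
  refine ⟨?_, iso⟩
  obtain ⟨φ⟩ := iso
  haveI : IsSimpleGroup (↥C ⧸ N) := (MulEquiv.isSimpleGroup_congr φ).mpr CfsgLib.SuzPres.isSuz.1
  have hnab : ¬ ∀ a b : ↥C ⧸ N, a * b = b * a := fun h => by
    obtain ⟨g, -, hg⟩ := co.nwc
    exact hg (by rw [h g _, mul_inv_cancel_right])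
  have memC : ∀ g, g ∈ C ↔ Commute g x := by
    intro g
    rw [hC, hB, Subgroup.zpowers_eq_closure, Subgroup.centralizer_closure, Subgroup.mem_centralizer_singleton_iff]
    rfl
  have hxC : x ∈ C := (memC x).mpr (Commute.refl x)
  have hxB : x ∈ B := hB ▸ Subgroup.mem_zpowers x
  have hBz : ∀ n : ↥C, (n : G) ∈ B → ∃ m : ℤ, n = ⟨x, hxC⟩ ^ m := fun n hn => by
    rw [hB] at hn
    obtain ⟨m, e⟩ := Subgroup.mem_zpowers_iff.mp hn
    exact ⟨m, Subtype.ext e.symm⟩
  have hmk1 : ∀ n : ↥C, mk n = 1 ↔ (n : G) ∈ B := fun n => QuotientGroup.eq_one_iff n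
  -- the centre
  have hcen : Subgroup.center ↥C = N := by
    refine le_antisymm ?_ fun n hn => Subgroup.mem_center_iff.mpr fun c => Subtype.ext ?_
    · intro c hc
      rcases Subgroup.Normal.eq_bot_or_eq_top (Subgroup.Normal.map (inferInstance : (Subgroup.center ↥C).Normal) mk
        (QuotientGroup.mk'_surjective N)) with e | e
      · have : mk c ∈ (Subgroup.center ↥C).map mk := ⟨c, hc, rfl⟩
        rw [e, Subgroup.mem_bot] at this
        exact (QuotientGroup.eq_one_iff c).mp this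
      · refine absurd (fun a b => ?_) hnab
        obtain ⟨a', rfl⟩ := QuotientGroup.mk'_surjective N a
        obtain ⟨b', hb', rfl⟩ := e.ge (Subgroup.mem_top b)
        rw [← map_mul, ← map_mul, Subgroup.mem_center_iff.mp hb' a']
    · have h1 : Commute (c : G) (n : G) := by
        obtain ⟨m, e⟩ := hBz n hn
        rw [e]
        exact ((memC c).mp c.2).zpow_right m
      exact h1.eq
  suffices hperf : commutator ↥C = ⊤ by
    refine ⟨⟨hperf⟩, ?_⟩
    exact (MulEquiv.isSimpleGroup_congr (QuotientGroup.quotientMulEquivOfEq hcen)).mpr inferInstance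
  set S := commutator ↥C with hS
  have himg : S.map mk = ⊤ := by
    refine (Subgroup.Normal.eq_bot_or_eq_top (Subgroup.Normal.map (inferInstance : (commutator ↥C).Normal) mk
      (QuotientGroup.mk'_surjective N))).resolve_left fun e => hnab fun a b => ?_
    obtain ⟨a', rfl⟩ := QuotientGroup.mk'_surjective N a
    obtain ⟨b', rfl⟩ := QuotientGroup.mk'_surjective N b
    refine commutatorElement_eq_one_iff_mul_comm.mp (Subgroup.mem_bot.mp ?_)
    rw [← e, ← map_commutatorElement]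
    exact ⟨_, Subgroup.commutator_mem_commutator (Subgroup.mem_top a') (Subgroup.mem_top b'), rfl⟩
  have hdec : ∀ c : ↥C, ∃ s ∈ S, ∃ m : ℤ, c = s * ⟨x, hxC⟩ ^ m := by
    intro c
    obtain ⟨s, hs, e⟩ := himg.ge (Subgroup.mem_top (mk c))
    obtain ⟨m, hm⟩ := hBz (s⁻¹ * c) ((hmk1 _).mp (by rw [map_mul, map_inv, e, inv_mul_cancel]))
    exact ⟨s, hs, m, by rw [← hm, mul_inv_cancel_left]⟩
  by_cases hxS : (⟨x, hxC⟩ : ↥C) ∈ S
  · rw [eq_top_iff]
    intro c _
    obtain ⟨s, hs, m, rfl⟩ := hdec c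
    exact mul_mem hs (zpow_mem hxS m)
  exfalso
  have hx3 : (⟨x, hxC⟩ : ↥C) * ⟨x, hxC⟩ * ⟨x, hxC⟩ = 1 := Subtype.ext D.cube
  have hmeet : ∀ n ∈ S, (n : G) ∈ B → n = 1 := by
    intro n hn hnB
    obtain ⟨m, rfl⟩ := hBz n hnB
    rcases (show m % 3 = 0 ∨ m % 3 = 1 ∨ m % 3 = 2 by omega) with h | h | h
    all_goals
      have e : (⟨x, hxC⟩ : ↥C) ^ m = ⟨x, hxC⟩ ^ (m % 3) := by
        conv_lhs => rw [← Int.mul_ediv_add_emod m 3, zpow_add, zpow_mul]
        rw [show (⟨x, hxC⟩ : ↥C) ^ (3 : ℤ) = 1 by rw [zpow_ofNat, pow_succ, pow_two, hx3], one_zpow, one_mul]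
      rw [e, h] at hn ⊢
    · rw [zpow_zero]
    · rw [zpow_one] at hn; exact absurd hn hxS
    · refine absurd ?_ hxS
      have h2 : (⟨x, hxC⟩ : ↥C) = ⟨x, hxC⟩ ^ (2 : ℤ) * ⟨x, hxC⟩ ^ (2 : ℤ) := by
        rw [← zpow_add, show ((2 : ℤ) + 2) = 3 + 1 by norm_num, zpow_add, zpow_one,
          show (⟨x, hxC⟩ : ↥C) ^ (3 : ℤ) = 1 by rw [zpow_ofNat, pow_succ, pow_two, hx3], one_mul]
      rw [h2]
      exact mul_mem hn hn
  have hRS : ∀ q : ↥C, (q : G) ∈ R → q ∈ S := by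
    intro q hq
    obtain ⟨s, hs, m, e⟩ := hdec q
    set n := (⟨x, hxC⟩ : ↥C) ^ m with hn
    have hn3 : n * n * n = 1 := by
      rw [hn, ← zpow_add, ← zpow_add, show m + m + m = 3 * m by ring, zpow_mul,
        show (⟨x, hxC⟩ : ↥C) ^ (3 : ℤ) = 1 by rw [zpow_ofNat, pow_succ, pow_two, hx3], one_zpow]
    have h4 : q * q * (q * q) = 1 := Subtype.ext (pow_four H hq)
    have hcomm : Commute s n := by
      refine Subtype.ext ?_
      rw [hn]
      push_cast
      exact (((memC s).mp s.2).zpow_right m).eq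
    have h5 : n = (s * s * (s * s))⁻¹ := by
      refine eq_inv_of_mul_eq_one_right ?_
      have p4 : ∀ g : ↥C, g * g * (g * g) = g ^ 4 := fun g => by simp only [pow_succ, pow_zero, one_mul, mul_assoc]
      rw [← h4, p4, p4, e, hcomm.mul_pow, show n ^ 4 = n * n * n * n from by simp only [pow_succ, pow_zero, one_mul],
        hn3, one_mul]
    rw [e, h5]
    exact mul_mem hs (inv_mem (mul_mem (mul_mem hs hs) (mul_mem hs hs)))
  obtain ⟨w, hwz, hwx, hw, hwv⟩ := D.exists_partner_three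
  have hwC : w ∈ C := (memC w).mpr hwx
  -- the partner lies in the derived group
  have hwS : (⟨w, hwC⟩ : ↥C) ∈ S := by
    obtain ⟨M, hM, m1, m2, m3, m4⟩ := exists_invert_plane
    obtain ⟨d, hdz, hdx, hdv⟩ := D.exists_cent hM (fun u => by rw [rot, rotP_map hM.1, m1, m2]; rfl)
    have hd : Commute d z := hdz
    have hdi : d⁻¹ * z = z * d⁻¹ := hd.inv_left.eq
    have hprod : w * (d * w * d⁻¹) ∈ R := by
      refine H.ker _ ((show Commute w z from hwz).mul_left ((hd.mul_left hwz).mul_left hd.inv_left)).eq fun a ha => ?_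
      have h1 := H.conj_mem hdi ha
      rw [inv_inv] at h1
      rw [show w * (d * w * d⁻¹) * a * (w * (d * w * d⁻¹))⁻¹ = w * (d * (w * (d⁻¹ * a * d) * w⁻¹) * d⁻¹) * w⁻¹ by group,
        hwv _ (H.conj_mem hdz (H.conj_mem hwz h1)), hdv _ (H.conj_mem hwz h1), hwv _ h1, rotP_map hM.1, m3, m4,
        rotb_inv, ← hdv _ h1]
      congr 1
      group
    have hdC : d ∈ C := (memC d).mpr hdx
    set w' : ↥C := ⟨w, hwC⟩ with hw'
    set d' : ↥C := ⟨d, hdC⟩ with hd'
    have h1 : w' * (d' * w' * d'⁻¹) ∈ S := hRS _ hprod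
    have h2 : ⁅d', w'⁆ ∈ S := Subgroup.commutator_mem_commutator (Subgroup.mem_top _) (Subgroup.mem_top _)
    have h3 : w' * ⁅d', w'⁆ * w'⁻¹ ∈ S := (inferInstance : (commutator ↥C).Normal).conj_mem _ h2 w'
    have h4 : w' * w' ∈ S := by
      have := mul_mem (inv_mem h3) h1
      rwa [show (w' * ⁅d', w'⁆ * w'⁻¹)⁻¹ * (w' * (d' * w' * d'⁻¹)) = w' * w' by
        rw [commutatorElement_def]
        simp only [mul_inv_rev, inv_inv, mul_assoc, inv_mul_cancel_left, mul_inv_cancel, mul_one]] at this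
    have h5 : w' = w' * w' * (w' * w') := by
      refine Subtype.ext ?_
      show w = w * w * (w * w)
      rw [← mul_assoc, hw, one_mul]
    rw [h5]
    exact mul_mem h4 h4
  -- the centraliser of the partner in the derived group is perfect
  set wb := mk ⟨w, hwC⟩ with hwb
  have hYD : SuzThree.YD (mk ⟨z, hzC⟩) Rb vb wb := by
    refine ⟨co, ?_, ?_, ?_⟩
    · rw [hwb, ← map_mul, ← map_mul, show (⟨w, hwC⟩ : ↥C) * ⟨w, hwC⟩ * ⟨w, hwC⟩ = 1 from Subtype.ext hw, map_one]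
    · exact ((show Commute (⟨w, hwC⟩ : ↥C) ⟨z, hzC⟩ from Subtype.ext hwz).map mk).eq
    · intro y hy
      obtain ⟨a, ha, haR, rfl⟩ := hRex y hy
      rw [hwb, ← map_inv, ← map_mul, ← map_mul, (hR a ha haR).2]
      show vb (mk ⟨w * a * w⁻¹, _⟩) = _
      rw [(hR _ _ (H.conj_mem hwz haR)).2, hwv a haR, ← extF_L0, extF]
      exact (split_check _ _ _).1
  set Bw := Subgroup.zpowers wb with hBw
  haveI hBn : (Bw.subgroupOf (Subgroup.centralizer (Bw : Set (↥C ⧸ N)))).Normal := ⟨fun n hn g => by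
    rw [Subgroup.mem_subgroupOf] at hn ⊢
    have h1 : Commute (g : ↥C ⧸ N) (n : ↥C ⧸ N) := (Subgroup.mem_centralizer_iff.mp g.2 _ hn).symm
    show (g : ↥C ⧸ N) * n * (g : ↥C ⧸ N)⁻¹ ∈ Bw
    rw [h1.eq, mul_inv_cancel_right]
    exact hn⟩
  haveI : Fintype (GaloisField 3 2) := Fintype.ofFinite _
  have hF : Fintype.card (GaloisField 3 2) = 9 := by
    haveI : Fact (Nat.Prime 3) := ⟨Nat.prime_three⟩
    rw [← Nat.card_eq_fintype_card, GaloisField.card 3 2 (by norm_num)]; norm_num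
  obtain ⟨⟨⟨hperfC⟩, -⟩, -, -⟩ := SuzThree.conclusion hYD hBw (GaloisField 3 2) hF
  set Cw := Subgroup.centralizer (Bw : Set (↥C ⧸ N)) with hCw
  have hCwc : ⁅Cw, Cw⁆ = Cw := by
    have h := Subgroup.map_subtype_commutator Cw
    rw [hperfC, ← MonoidHom.range_eq_map, Subgroup.range_subtype] at h
    exact h.symm
  set T := Subgroup.centralizer ({⟨w, hwC⟩} : Set ↥C) with hT
  set T0 := S ⊓ T with hT0
  have hT0map : T0.map mk = Cw := by
    refine le_antisymm ?_ fun y hy => ?_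
    · rintro _ ⟨c, hc, rfl⟩
      refine Subgroup.mem_centralizer_iff.mpr fun n hn => ?_
      obtain ⟨m, rfl⟩ := Subgroup.mem_zpowers_iff.mp hn
      exact (((show Commute c ⟨w, hwC⟩ from
        Subgroup.mem_centralizer_singleton_iff.mp (Subgroup.mem_inf.mp hc).2).map mk).zpow_right m).eq.symm
    · obtain ⟨c, rfl⟩ := QuotientGroup.mk'_surjective N y
      obtain ⟨s, hs, m, rfl⟩ := hdec c
      have hsm : mk (s * ⟨x, hxC⟩ ^ m) = mk s := by
        rw [map_mul, map_zpow, (hmk1 ⟨x, hxC⟩).mpr hxB, one_zpow, mul_one]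
      refine ⟨s, Subgroup.mem_inf.mpr ⟨hs, Subgroup.mem_centralizer_singleton_iff.mpr ?_⟩, hsm.symm⟩
      refine commutatorElement_eq_one_iff_mul_comm.mp (hmeet _ ?_ ((hmk1 _).mp ?_))
      · exact Subgroup.commutator_mem_commutator (Subgroup.mem_top _) (Subgroup.mem_top _)
      · rw [map_commutatorElement, commutatorElement_eq_one_iff_mul_comm, ← hsm]
        exact (Subgroup.mem_centralizer_iff.mp hy wb (Subgroup.mem_zpowers wb)).symm
  have hwT : (⟨w, hwC⟩ : ↥C) ∈ ⁅T, T⁆ := by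
    have hwCw : wb ∈ Cw := Subgroup.mem_centralizer_iff.mpr fun n hn => by
      obtain ⟨m, rfl⟩ := Subgroup.mem_zpowers_iff.mp hn
      exact ((Commute.refl wb).zpow_left m).eq
    rw [← hCwc, ← hT0map, ← Subgroup.map_commutator] at hwCw
    obtain ⟨t, ht, e⟩ := hwCw
    have htS : t ∈ S := Subgroup.commutator_le.mpr (fun a _ b _ =>
      Subgroup.commutator_mem_commutator (Subgroup.mem_top a) (Subgroup.mem_top b)) ht
    have h1 : t⁻¹ * ⟨w, hwC⟩ = 1 := hmeet _ (mul_mem (inv_mem htS) hwS) ((hmk1 _).mp (by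
      rw [map_mul, map_inv, e, inv_mul_cancel]))
    rw [inv_mul_eq_one] at h1
    exact Subgroup.commutator_mono inf_le_right inf_le_right (h1 ▸ ht)
  obtain ⟨e, hex, hew⟩ := D.exists_exchange hwz hwx hw hwv
  have hle : (T.map C.subtype).map (MulAut.conj e).toMonoidHom ≤ T.map C.subtype := by
    rintro _ ⟨_, ⟨c, hc, rfl⟩, rfl⟩
    have c1 := ((memC c).mp c.2).map (MulAut.conj e)
    have c2 := (show Commute (c : G) w from
      congrArg Subtype.val (Subgroup.mem_centralizer_singleton_iff.mp hc)).map (MulAut.conj e)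
    rw [MulAut.conj_apply, MulAut.conj_apply] at c1 c2
    rw [hex] at c1
    rw [hew] at c2
    exact ⟨⟨_, (memC _).mpr c2⟩, Subgroup.mem_centralizer_singleton_iff.mpr (Subtype.ext c1.eq), rfl⟩
  have h1 : w ∈ ⁅T.map C.subtype, T.map C.subtype⁆ := by
    rw [← Subgroup.map_commutator]
    exact ⟨_, hwT, rfl⟩
  have h2 : x ∈ ⁅T.map C.subtype, T.map C.subtype⁆ := by
    refine Subgroup.commutator_mono hle hle ?_
    rw [← Subgroup.map_commutator]
    exact ⟨w, h1, hew⟩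
  rw [← Subgroup.map_commutator] at h2
  obtain ⟨t, ht, e'⟩ := h2
  have : t = ⟨x, hxC⟩ := Subtype.ext e'
  exact hxS (this ▸ Subgroup.commutator_le.mpr (fun a _ b _ =>
    Subgroup.commutator_mem_commutator (Subgroup.mem_top a) (Subgroup.mem_top b)) ht)

end CfsgLib.CoOneThree
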