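import Cfsg.Agent.Lib.CoOneType.Core
import Cfsg.Agent.Lib.SuzThree.Lin
import Cfsg.Agent.Lib.SuzThree.Tables

/-!
The plus type space of dimension eight as an anisotropic plane and a six-dimensional space of minus type.
-/

set_option autoImplicit false
set_option maxRecDepth 100000

namespace CfsgLib.CoOneThree

open CfsgLib.Extraspecial CfsgLib.CoOneType
open CfsgLib.ConwayFive (e8 pol dec8 dec8_surj)
open CfsgLib.SuzType (V6 cb)

/-- a bit as a scalar -/
def bitz (b : Bool) : ZMod 2 := cond b 1 0

/-- the embedding of the six-dimensional space -/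
def inj (u : V6) : V8 :=
  ![(bitz (cb u 0), bitz (cb u 1)), (bitz (cb u 4), bitz (cb u 5)), (bitz (cb u 2), bitz (cb u 3)), (0, 0)]

/-- the coordinates of the projection to the six-dimensional space -/
def crd (w : V8) : V6 :=
  ⟨((w 0).1.val + 2 * (w 0).2.val + 4 * (w 2).1.val + 8 * (w 2).2.val + 16 * (w 1).1.val + 32 * (w 1).2.val) % 64,
    Nat.mod_lt _ (by norm_num)⟩

/-- first vector of the plane -/
def ra : V8 := dec8 64
/-- second vector of the plane -/
def sa : V8 := dec8 128
/-- first vector of the second plane -/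
def rb : V8 := dec8 4
/-- second vector of the second plane -/
def sb : V8 := dec8 8

/-- a vector of the plane -/
def pv (i j : Bool) : V8 := cond i ra 0 + cond j sa 0

/-- the rotation of the plane of `r`, `s` -/
def rotP (r s w : V8) : V8 := w + (cond (bf w s) (r + s) 0 + cond (bf w r) r 0)

/-- the standard rotation -/
def rot (w : V8) : V8 := rotP ra sa w

theorem inj_add : ∀ a b : V6, inj (SuzType.xr a b) = inj a + inj b := by decide +kernel

theorem inj_qf : ∀ a : V6, qf (inj a) = SuzType.qf a := by decide +kernel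

theorem inj_bf : ∀ a b : V6, bf (inj a) (inj b) = SuzType.bf a b := by decide +kernel

theorem split_check : ∀ u : V6, ∀ i j : Bool, crd (inj u + pv i j) = u ∧ bf (inj u + pv i j) sa = i ∧
    bf (inj u + pv i j) ra = j ∧ qf (inj u + pv i j) = (SuzType.qf u ^^ (i || j)) ∧
    rot (inj u + pv i j) = inj u + pv j (i ^^ j) := by decide +kernel

theorem decomp (w : V8) : inj (crd w) + pv (bf w sa) (bf w ra) = w := by
  have h : ∀ k : Fin 256, inj (crd (dec8 k)) + pv (bf (dec8 k) sa) (bf (dec8 k) ra) = dec8 k := by decide +kernel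
  obtain ⟨k, rfl⟩ := dec8_surj w
  exact h k

theorem base_facts : pv false false = 0 ∧ inj 0 = 0 ∧ pv true false = ra ∧ pv false true = sa ∧ inj 16 = rb ∧
    inj 32 = sb ∧ crd ra = 0 ∧ crd sa = 0 ∧ qf ra = true ∧ qf sa = true ∧ bf ra sa = true := by decide +kernel

theorem inj_perp (u : V6) : bf (inj u) sa = false ∧ bf (inj u) ra = false ∧ crd (inj u) = u := by
  obtain ⟨h1, h2, h3, -, -⟩ := split_check u false false
  rw [base_facts.1, add_zero] at h1 h2 h3
  exact ⟨h2, h3, h1⟩

theorem pv_add : ∀ i j i' j', pv (i ^^ i') (j ^^ j') = pv i j + pv i' j' := by decide +kernel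

theorem crd_add (a b : V8) : crd (a + b) = SuzType.xr (crd a) (crd b) := by
  have h : a + b = inj (SuzType.xr (crd a) (crd b)) + pv (bf a sa ^^ bf b sa) (bf a ra ^^ bf b ra) := by
    rw [inj_add, pv_add, add_add_add_comm, decomp, decomp]
  rw [h, (split_check _ _ _).1]

theorem perp_eq {w : V8} (h1 : bf w sa = false) (h2 : bf w ra = false) : inj (crd w) = w := by
  have h := decomp w
  rwa [h1, h2, base_facts.1, add_zero] at h

theorem crd_qf {w : V8} (h1 : bf w sa = false) (h2 : bf w ra = false) : SuzType.qf (crd w) = qf w := by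
  rw [← inj_qf, perp_eq h1 h2]

theorem rot_eq_self {w : V8} : rot w = w ↔ bf w sa = false ∧ bf w ra = false := by
  have h : ∀ u : V6, ∀ i j : Bool, inj u + pv j (i ^^ j) = inj u + pv i j ↔ (i = false ∧ j = false) := by
    decide +kernel
  conv_lhs => rw [← decomp w]
  rw [(split_check _ _ _).2.2.2.2]
  exact h _ _ _

theorem plane_orbit : rot ra = sa ∧ rot sa = ra + sa ∧ rot (ra + sa) = ra ∧
    (∀ w : Bool × Bool, qf (pv w.1 w.2) = (w.1 || w.2)) := by decide +kernel

theorem rotP_map {L : CoOneType.Lin} (h : L ∈ isoGrp e8) (r s w : V8) : L (rotP r s w) = rotP (L r) (L s) (L w) := by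
  rw [rotP, rotP, iso_bf h, iso_bf h, map_add, map_add]
  cases bf w s <;> cases bf w r <;> simp

theorem rotb_facts : (∀ k : Fin 256, rotP rb sb (rotP sb rb (dec8 k)) = dec8 k) ∧
    (∀ k : Fin 256, inj (SuzType.app SuzThree.L0 (crd (dec8 k))) + pv (bf (dec8 k) sa) (bf (dec8 k) ra) =
      rotP rb sb (dec8 k)) ∧ rotP rb sb ra = ra ∧ rotP rb sb sa = sa := by decide +kernel

/-! ### extension of maps of the six-dimensional space -/

/-- extension by the identity on the plane -/
def extF (L : SuzType.Lin) (w : V8) : V8 := inj (SuzType.app L (crd w)) + pv (bf w sa) (bf w ra)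

theorem extF_add (L : SuzType.Lin) (a b : V8) : extF L (a + b) = extF L a + extF L b := by
  rw [extF, extF, extF, crd_add, SuzType.app_xr, inj_add, bf_xor_left, bf_xor_left, pv_add]
  abel

theorem extF_split (L : SuzType.Lin) (u : V6) (i j : Bool) :
    extF L (inj u + pv i j) = inj (SuzType.app L u) + pv i j := by
  obtain ⟨h1, h2, h3, -, -⟩ := split_check u i j
  rw [extF, h1, h2, h3]

theorem extF_rot (L : SuzType.Lin) (w : V8) : extF L (rot w) = rot (extF L w) := by
  rw [← decomp w, (split_check _ _ _).2.2.2.2, extF_split, extF_split, (split_check _ _ _).2.2.2.2]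

theorem extF_qf {L : SuzType.Lin} (h : SuzType.Iso L) (w : V8) : qf (extF L w) = qf w := by
  rw [← decomp w, extF_split, (split_check _ _ _).2.2.2.1, (split_check _ _ _).2.2.2.1, h]

/-- the fixed vectors of an extension -/
theorem nfix_extF (L : SuzType.Lin) :
    Nat.card {w : V8 // extF L w = w} = SuzType.nfix L * 4 := by
  let e : {w : V8 // extF L w = w} ≃ {u : V6 // SuzType.app L u = u} × Bool × Bool :=
    { toFun := fun w => (⟨crd w.1, by
        have h := congrArg crd w.2
        rwa [extF, (split_check _ _ _).1] at h⟩, bf w.1 sa, bf w.1 ra)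
      invFun := fun p => ⟨inj p.1.1 + pv p.2.1 p.2.2, by rw [extF_split, p.1.2]⟩
      left_inv := fun w => Subtype.ext (decomp w.1)
      right_inv := fun p => by
        obtain ⟨⟨u, hu⟩, i, j⟩ := p
        obtain ⟨h1, h2, h3, -, -⟩ := split_check u i j
        exact Prod.ext (Subtype.ext h1) (Prod.ext h2 h3) }
  rw [Nat.card_congr e, Nat.card_prod, Nat.card_prod, Nat.card_eq_fintype_card (α := Bool), Fintype.card_bool,
    Nat.card_eq_fintype_card, Fintype.card_subtype]
  rfl

theorem exists_ext {L : SuzType.Lin} (h : SuzType.Good L) :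
    ∃ M : CoOneType.Lin, CoOneType.Good M ∧ ∀ w, M w = extF L w := by
  have hinj : Function.Injective ((AddMonoidHom.mk' (extF L) (extF_add L)).toZModLinearMap 2) := by
    intro a b e
    have e' : extF L a = extF L b := e
    rw [← decomp a, ← decomp b, extF_split, extF_split] at e'
    have h1 := congrArg crd e'
    have h2 := congrArg (fun w => bf w sa) e'
    have h3 := congrArg (fun w => bf w ra) e'
    simp only [(split_check _ _ _).1, (split_check _ _ _).2.1, (split_check _ _ _).2.2.1] at h1 h2 h3
    rw [← decomp a, ← decomp b, SuzThree.iso_inj h.1 h1, h2, h3]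
  refine ⟨LinearEquiv.ofBijective _ ⟨hinj, Finite.injective_iff_surjective.mp hinj⟩,
    ⟨fun v => qf_iff.mp (extF_qf h.1 v), ?_⟩, fun w => rfl⟩
  have e : CoOneType.nfix (LinearEquiv.ofBijective _ ⟨hinj, Finite.injective_iff_surjective.mp hinj⟩) =
      SuzType.nfix L * 4 := nfix_extF L
  rw [e]
  rcases h.2 with e | e | e | e <;> rw [e]
  exacts [⟨2, ⟨1, rfl⟩, rfl⟩, ⟨4, ⟨2, rfl⟩, rfl⟩, ⟨6, ⟨3, rfl⟩, rfl⟩, ⟨8, ⟨4, rfl⟩, rfl⟩]

/-- restriction to the six-dimensional space -/
def res (L : CoOneType.Lin) : SuzType.Lin :=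
  ⟨crd (L (inj 1)), crd (L (inj 2)), crd (L (inj 4)), crd (L (inj 8)), crd (L (inj 16)), crd (L (inj 32))⟩

theorem app_res (L : CoOneType.Lin) (u : V6) : SuzType.app (res L) u = crd (L (inj u)) := by
  have hadd : ∀ a b, crd (L (inj (SuzType.xr a b))) = SuzType.xr (crd (L (inj a))) (crd (L (inj b))) :=
    fun a b => by rw [inj_add, map_add, crd_add]
  have h0 : crd (L (inj 0)) = 0 := by rw [base_facts.2.1, map_zero]; decide +kernel
  have hsel : ∀ b a, crd (L (inj (SuzType.sel b a))) = SuzType.sel b (crd (L (inj a))) := fun b a => by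
    cases b
    · exact h0
    · rfl
  conv_rhs => rw [← SuzThree.app_L1 u]
  simp only [SuzType.app, SuzThree.L1, res, hadd, hsel]

theorem eq_extF {L : CoOneType.Lin} (hL : CoOneType.Good L) (h1 : L ra = ra) (h2 : L sa = sa) (w : V8) :
    L w = extF (res L) w := by
  have hp : ∀ u, bf (L (inj u)) sa = false ∧ bf (L (inj u)) ra = false := fun u =>
    ⟨by rw [← h2, iso_bf hL.1]; exact (inj_perp u).1, by rw [← h1, iso_bf hL.1]; exact (inj_perp u).2.1⟩
  have hpv : ∀ i j, L (pv i j) = pv i j := fun i j => by cases i <;> cases j <;> simp [pv, h1, h2]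
  rw [extF, app_res, perp_eq (hp _).1 (hp _).2]
  conv_lhs => rw [← decomp w, map_add, hpv]

theorem good_res {L : CoOneType.Lin} (hL : CoOneType.Good L) (h1 : L ra = ra) (h2 : L sa = sa) :
    SuzType.Good (res L) := by
  refine ⟨fun u => ?_, ?_⟩
  · rw [app_res, crd_qf (by rw [← h2, iso_bf hL.1]; exact (inj_perp u).1)
      (by rw [← h1, iso_bf hL.1]; exact (inj_perp u).2.1), iso_qf hL.1, inj_qf]
  · obtain ⟨k, hk, hk'⟩ := hL.2
    have e : CoOneType.nfix L = SuzType.nfix (res L) * 4 := by
      rw [← nfix_extF]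
      exact Nat.card_congr (Equiv.subtypeEquivRight fun w => by rw [eq_extF hL h1 h2])
    have hle : SuzType.nfix (res L) ≤ 64 :=
      (Finset.card_le_univ _).trans_eq (Fintype.card_fin 64)
    rw [e] at hk'
    have h9 : k < 9 := (Nat.pow_lt_pow_iff_right (a := 2) (by norm_num)).mp (by omega)
    obtain ⟨m, rfl⟩ := hk
    interval_cases hm : m + m <;> omega

/-! ### rotations and movers -/

theorem li_ab : LinearIndependent (ZMod 2) ![ra, sa] :=
  li_two (by decide +kernel) (by decide +kernel) (by decide +kernel)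

theorem exists_move_plane {r s : V8} (hr : qf r = true) (hs : qf s = true) (hrs : bf r s = true) :
    ∃ M, CoOneType.Good M ∧ M ra = r ∧ M sa = s := by
  have nz : ∀ {a : V8}, qf a = true → a ≠ 0 := fun h e => by rw [e, qf_zero] at h; exact Bool.false_ne_true h
  have hne : r ≠ s := fun e => by rw [e, bf_self] at hrs; exact Bool.false_ne_true hrs
  obtain ⟨-, -, -, -, -, -, -, -, q1, q2, q3⟩ := base_facts
  obtain ⟨M, hM, hM'⟩ := move ![ra, sa] ![r, s] li_ab (li_two (nz hr) (nz hs) hne)
    (fun i => by fin_cases i <;> simp [q1, q2, hr, hs])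
    (fun i j => by fin_cases i <;> fin_cases j <;> simp [bf_self, q3, hrs, bf_comm sa ra, bf_comm s r])
    (Or.inr ⟨inj 48, by decide +kernel, fun i => by
      fin_cases i
      exacts [(inj_perp 48).2.1, (inj_perp 48).1]⟩)
  exact ⟨M, hM, hM' 0, hM' 1⟩

/-- the four vectors -/
def four : Fin 4 → V8 := ![ra, sa, rb, sb]

theorem four_facts : (∀ c : Fin 4 → ZMod 2, c 0 • ra + c 1 • sa + c 2 • rb + c 3 • sb = 0 → c = 0) ∧
    (∀ i, qf (four i) = true ∧ bf (inj 3) (four i) = false) ∧
    (∀ i j, bf (four i) (four j) = bf (![rb, sb, ra, sa] i) (![rb, sb, ra, sa] j) ∧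
      bf (four i) (four j) = bf (![ra, sa, sb, rb] i) (![ra, sa, sb, rb] j)) ∧ qf (inj 3) = true := by
  decide +kernel

theorem li_four : LinearIndependent (ZMod 2) four := by
  rw [Fintype.linearIndependent_iff]
  intro c hc i
  rw [four_facts.1 c (by simpa [Fin.sum_univ_four, four] using hc)]
  rfl

theorem exists_swap_planes : ∃ M, CoOneType.Good M ∧ M ra = rb ∧ M sa = sb ∧ M rb = ra ∧ M sb = sa := by
  have hg : LinearIndependent (ZMod 2) ![rb, sb, ra, sa] := by
    have := li_four.comp (![2, 3, 0, 1] : Fin 4 → Fin 4) (by decide)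
    convert this using 1
    funext i; fin_cases i <;> rfl
  obtain ⟨M, hM, h⟩ := move four ![rb, sb, ra, sa] li_four hg
    (fun i => by
      rw [(four_facts.2.1 i).1]
      fin_cases i <;> first | exact ((four_facts.2.1 2).1).symm | exact ((four_facts.2.1 3).1).symm |
        exact ((four_facts.2.1 0).1).symm | exact ((four_facts.2.1 1).1).symm)
    (fun i j => (four_facts.2.2.1 i j).1) (Or.inr ⟨inj 3, four_facts.2.2.2, fun i => (four_facts.2.1 i).2⟩)
  exact ⟨M, hM, h 0, h 1, h 2, h 3⟩

theorem exists_invert_plane : ∃ M, CoOneType.Good M ∧ M ra = ra ∧ M sa = sa ∧ M rb = sb ∧ M sb = rb := by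
  have hg : LinearIndependent (ZMod 2) ![ra, sa, sb, rb] := by
    have := li_four.comp (![0, 1, 3, 2] : Fin 4 → Fin 4) (by decide)
    convert this using 1
    funext i; fin_cases i <;> rfl
  obtain ⟨M, hM, h⟩ := move four ![ra, sa, sb, rb] li_four hg
    (fun i => by
      rw [(four_facts.2.1 i).1]
      fin_cases i <;> first | exact ((four_facts.2.1 0).1).symm | exact ((four_facts.2.1 1).1).symm |
        exact ((four_facts.2.1 3).1).symm | exact ((four_facts.2.1 2).1).symm)
    (fun i j => (four_facts.2.2.1 i j).2) (Or.inr ⟨inj 3, four_facts.2.2.2, fun i => (four_facts.2.1 i).2⟩)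
  exact ⟨M, hM, h 0, h 1, h 2, h 3⟩

/-- An element of order three with small displacement is a rotation. -/
theorem plane_of {L : CoOneType.Lin} (hL : L ∈ isoGrp e8) (h3 : ∀ w, L (L (L w)) = w) (hne : ∃ w, L w ≠ w)
    (hsmall : Small L) :
    ∃ r s, qf r = true ∧ qf s = true ∧ bf r s = true ∧ ∀ w, L w = rotP r s w := by
  classical
  obtain ⟨y, hy⟩ := hne
  set r := del L y with hr
  have hr0 : r ≠ 0 := fun e => hy (del_eq_zero.mp e)
  have hcomm : ∀ w, L (del L w) = del L (L w) := fun w => by rw [del_apply, del_apply, map_add]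
  set s := L r with hs
  have hrs : s ≠ r := by
    intro e
    have e' : L (L y + y) = L y + y := e
    rw [map_add, add_comm (L y) y] at e'
    have e2 : L (L y) = y := by
      have := congrArg (· + L y) e'
      simpa [add_assoc, CoOneType.add_self] using this
    apply hy
    conv_rhs => rw [← h3 y]
    rw [e2]
  have hs0 : s ≠ 0 := fun e => hr0 (L.injective (e.trans (map_zero L).symm))
  have hrs0 : r + s ≠ 0 := fun e => hrs (eq_of_add e).symm
  have hW : ∀ w, del L w = 0 ∨ del L w = r ∨ del L w = s ∨ del L w = r + s := by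
    intro w
    let S : Finset V8 := Finset.univ.image (del L)
    have hS : S.card ≤ 4 := by
      refine le_trans (le_of_eq ?_) hsmall
      haveI := Fintype.ofFinite (del L).range
      rw [Nat.card_eq_fintype_card]
      exact (Fintype.card_of_subtype _ fun a => by simp [S, AddMonoidHom.mem_range]).symm
    have hm : ∀ a, del L a ∈ S := fun a => Finset.mem_image_of_mem _ (Finset.mem_univ a)
    have hsub : ({0, r, s, r + s} : Finset V8) ⊆ S := by
      intro a ha
      simp only [Finset.mem_insert, Finset.mem_singleton] at ha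
      rcases ha with rfl | rfl | rfl | rfl
      · exact map_zero (del L) ▸ hm 0
      · exact hm y
      · rw [hs, hr, hcomm]; exact hm _
      · rw [hs, hr, hcomm, ← map_add]; exact hm _
    have hc : ({0, r, s, r + s} : Finset V8).card = 4 := by
      rw [Finset.card_insert_of_notMem, Finset.card_insert_of_notMem, Finset.card_insert_of_notMem,
        Finset.card_singleton]
      all_goals simp [hr0, hs0, hrs, Ne.symm hr0, Ne.symm hs0, Ne.symm hrs, Ne.symm hrs0, hrs0]
    have := hm w
    rw [← Finset.eq_of_subset_of_card_le hsub (by omega)] at this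
    simpa using this
  have hLs : L s = r + s := by
    have h1 : L s = del L (L (L y)) := by rw [hs, hr, hcomm, hcomm]
    rcases hW (L (L y)) with e | e | e | e <;> rw [← h1] at e
    · exact absurd (L.injective (e.trans (map_zero L).symm)) hs0
    · exfalso
      apply hrs
      have := congrArg L e
      rwa [hs, h3, eq_comm] at this
    · exact absurd (L.injective e) hrs
    · exact e
  have hback : L (r + s) = r := by rw [map_add, hLs, ← hs, add_comm r s, CoOneType.add_cancel]
  have hb : bf r s = true := by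
    by_contra hb
    rw [Bool.not_eq_true] at hb
    have hWs : ∀ w, bf s (del L w) = false := by
      intro w
      rcases hW w with e | e | e | e <;> rw [e]
      · exact bf_zero_right _
      · rw [bf_comm]; exact hb
      · exact bf_self _
      · rw [bf_xor_right, bf_self, bf_comm, hb]; rfl
    refine hrs (eq_of_bf fun c => ?_)
    have := iso_bf hL r c
    rw [← hs, app_eq_add_del L c, bf_xor_right, hWs, Bool.xor_false] at this
    exact this
  have hq : qf r = true ∧ qf s = true := by
    have h1 : qf s = qf r := iso_qf hL r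
    have h2 : qf (r + s) = qf r := (iso_qf hL (r + s)).symm.trans (congrArg qf hback)
    rw [qf_add, h1, hb] at h2
    rw [h1]
    revert h2; cases qf r <;> simp
  refine ⟨r, s, hq.1, hq.2, hb, fun w => ?_⟩
  set w' := w + (cond (bf w s) r 0 + cond (bf w r) s 0) with hw'
  have h1 : bf w' r = false := by
    rw [hw', bf_xor_left, bf_xor_left]
    cases bf w r <;> cases bf w s <;> simp [bf_self, bf_zero_left, bf_comm s r, hb]
  have h2 : bf w' s = false := by
    rw [hw', bf_xor_left, bf_xor_left]
    cases bf w r <;> cases bf w s <;> simp [bf_self, bf_zero_left, hb]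
  have hfix : L w' = w' := by
    refine del_eq_zero.mp ?_
    have k1 : bf (del L w') r = false := by
      have e : bf (L w') r = false := by
        rw [← hback, iso_bf hL, bf_xor_right, h1, h2]; rfl
      rw [del_apply, bf_xor_left, e, h1]; rfl
    have k2 : bf (del L w') s = false := by
      have e : bf (L w') s = false := by rw [hs, iso_bf hL]; exact h1
      rw [del_apply, bf_xor_left, e, h2]; rfl
    rcases hW w' with e | e | e | e
    · exact e
    · rw [e, hb] at k2; exact absurd k2 (by simp)
    · rw [e, bf_comm, hb] at k1; exact absurd k1 (by simp)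
    · rw [e, bf_xor_left, bf_self, bf_comm s r, hb] at k1; exact absurd k1 (by simp)
  have hw : w = w' + (cond (bf w s) r 0 + cond (bf w r) s 0) := by
    rw [hw', add_assoc, CoOneType.add_self, add_zero]
  rw [rotP]
  rw [show L w = L w' + L (cond (bf w s) r 0 + cond (bf w r) s 0) by rw [← map_add, ← hw], hfix, hw', map_add]
  cases bf w s <;> cases bf w r <;> simp [← hs, hLs, add_assoc, CoOneType.add_self, add_comm, add_left_comm]

end CfsgLib.CoOneThree
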