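import Cfsg.Agent.Lib.CoOneThree.Moved
import Cfsg.Agent.Lib.SuzType.Core

/-!
The centraliser of the element of order three modulo that element is of Suzuki type.
-/

set_option autoImplicit false
set_option linter.style.haveILetI false

namespace CfsgLib.CoOneThree

open CfsgLib.Extraspecial CfsgLib.CoOneType
open CfsgLib.SuzType (V6 cb)

theorem no_conflict : inj 1 ≠ inj 2 ∧ SuzType.bf 1 2 = true ∧ (∀ u : V6, inj u = 0 → u = 0) := by decide +kernel

variable {G : Type*} [Group G] [Finite G] {z : G} {R : Subgroup G} {v : G → V8} {x : G}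

theorem Pl.exists_quot (D : Pl z R v x) {B : Subgroup G} (hB : B = Subgroup.zpowers x)
    [(B.subgroupOf (Subgroup.centralizer (B : Set G))).Normal] :
    ∃ (hz : z ∈ Subgroup.centralizer (B : Set G))
      (Rb : Subgroup (↥(Subgroup.centralizer (B : Set G)) ⧸ B.subgroupOf (Subgroup.centralizer (B : Set G))))
      (vb : ↥(Subgroup.centralizer (B : Set G)) ⧸ B.subgroupOf (Subgroup.centralizer (B : Set G)) → V6),
      SuzType.Co (QuotientGroup.mk' _ ⟨z, hz⟩) Rb vb ∧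
        (∀ a (ha : a ∈ Subgroup.centralizer (B : Set G)), a ∈ R →
          QuotientGroup.mk' _ ⟨a, ha⟩ ∈ Rb ∧ vb (QuotientGroup.mk' _ ⟨a, ha⟩) = crd (v a)) ∧
        ∀ y ∈ Rb, ∃ a, ∃ ha : a ∈ Subgroup.centralizer (B : Set G), a ∈ R ∧ QuotientGroup.mk' _ ⟨a, ha⟩ = y := by
  classical
  haveI : Fact (Nat.Prime 2) := ⟨Nat.prime_two⟩
  have H := D.co
  set C := Subgroup.centralizer (B : Set G) with hC
  set N := B.subgroupOf C with hN
  set mk : ↥C →* ↥C ⧸ N := QuotientGroup.mk' N with hmk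
  have memC : ∀ g, g ∈ C ↔ Commute g x := by
    intro g
    rw [hC, hB, Subgroup.zpowers_eq_closure, Subgroup.centralizer_closure, Subgroup.mem_centralizer_singleton_iff]
    rfl
  have hB3 : ∀ n ∈ B, n * n * n = 1 := by
    intro n hn
    rw [hB] at hn
    obtain ⟨m, rfl⟩ := Subgroup.mem_zpowers_iff.mp hn
    have hx3 : x ^ (3 : ℤ) = 1 := by rw [zpow_ofNat, pow_succ, pow_two, D.cube]
    rw [← zpow_add, ← zpow_add, show m + m + m = 3 * m by ring, zpow_mul, hx3, one_zpow]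
  have hBz : ∀ n ∈ B, Commute n z := fun n hn => by
    rw [hB] at hn
    obtain ⟨m, rfl⟩ := Subgroup.mem_zpowers_iff.mp hn
    exact (show Commute x z from D.xz).zpow_left m
  have hxC : x ∈ C := (memC x).mpr (Commute.refl x)
  have hzC : z ∈ C := (memC z).mpr (show Commute x z from D.xz).symm
  have hcommB : ∀ c ∈ C, ∀ n ∈ B, Commute c n := fun c hc n hn => by
    rw [hB] at hn
    obtain ⟨m, rfl⟩ := Subgroup.mem_zpowers_iff.mp hn
    exact ((memC c).mp hc).zpow_right m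
  have hq4 : ∀ q ∈ R, q * q * (q * q) = 1 := fun q hq => pow_four H hq
  have hBR : ∀ n ∈ B, n * n * (n * n) = 1 → n = 1 := fun n hn h => by
    rwa [← mul_assoc (n * n) n n, hB3 n hn, one_mul] at h
  have hmk1 : ∀ {a : G} (ha : a ∈ C), mk ⟨a, ha⟩ = 1 ↔ a ∈ B := fun ha => QuotientGroup.eq_one_iff _
  -- equalities in the quotient
  have hmkeq : ∀ {a b : G} (ha : a ∈ C) (hb : b ∈ C), mk ⟨a, ha⟩ = mk ⟨b, hb⟩ → ∃ n ∈ B, b = a * n :=
    fun {a b} ha hb h => ⟨a⁻¹ * b, (QuotientGroup.eq.mp h : (⟨a, ha⟩ : ↥C)⁻¹ * ⟨b, hb⟩ ∈ N),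
      (mul_inv_cancel_left _ _).symm⟩
  -- an element of the extraspecial group is determined by its image
  have hdet : ∀ {a b : G} (ha : a ∈ C) (hb : b ∈ C), a ∈ R → b ∈ R → mk ⟨a, ha⟩ = mk ⟨b, hb⟩ → a = b := by
    intro a b ha hb haR hbR h
    obtain ⟨n, hn, e⟩ := hmkeq ha hb h
    have h1 : n ∈ R := by
      have := mul_mem (inv_mem haR) hbR
      rwa [e, inv_mul_cancel_left] at this
    rw [e, hBR n hn (hq4 n h1), mul_one]
  -- conjugation lifts
  have hconj : ∀ {a b c : G} (ha : a ∈ C) (hb : b ∈ C) (hc : c ∈ C), a ∈ R → b ∈ R →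
      mk ⟨c, hc⟩ * mk ⟨a, ha⟩ * (mk ⟨c, hc⟩)⁻¹ = mk ⟨b, hb⟩ → c * a * c⁻¹ = b := by
    intro a b c ha hb hc haR hbR h
    rw [← map_mul, ← map_inv, ← map_mul] at h
    obtain ⟨n, hn, e⟩ := hmkeq (mul_mem (mul_mem hc ha) (inv_mem hc)) hb h
    have hcn := hcommB _ (mul_mem (mul_mem hc ha) (inv_mem hc)) n hn
    have h1 : b * b * (b * b) = c * (a * a * (a * a)) * c⁻¹ * (n * n * (n * n)) := by
      have p4 : ∀ g : G, g * g * (g * g) = g ^ 4 := fun g => by simp only [pow_succ, pow_zero, one_mul, mul_assoc]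
      rw [p4, p4, p4, e, hcn.mul_pow, conj_pow]
    rw [hq4 a haR, hq4 b hbR, mul_one, mul_inv_cancel, one_mul] at h1
    rw [e, hBR n hn h1.symm, mul_one]
  -- the centraliser of the involution
  have hcz : ∀ {c : G} (hc : c ∈ C), mk ⟨c, hc⟩ * mk ⟨z, hzC⟩ = mk ⟨z, hzC⟩ * mk ⟨c, hc⟩ → c * z = z * c :=
    fun {c} hc h => mul_inv_eq_iff_eq_mul.mp (hconj hzC hzC hc H.z_mem H.z_mem (mul_inv_eq_iff_eq_mul.mpr h))
  set S : Subgroup ↥C := R.subgroupOf C with hS
  set Rb := S.map mk with hRb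
  have hinRb : ∀ {a : G} (ha : a ∈ C), a ∈ R → mk ⟨a, ha⟩ ∈ Rb := fun ha haR => ⟨⟨_, ha⟩, haR, rfl⟩
  have hexRb : ∀ {y}, y ∈ Rb → ∃ a, ∃ ha : a ∈ C, a ∈ R ∧ mk ⟨a, ha⟩ = y := fun {y} hy => by
    obtain ⟨⟨a, ha⟩, haR, e⟩ := hy
    exact ⟨a, ha, haR, e⟩
  let vb : ↥C ⧸ N → V6 := fun y => if h : y ∈ Rb then crd (v (hexRb h).choose) else 0
  have hvb : ∀ {a : G} (ha : a ∈ C), a ∈ R → vb (mk ⟨a, ha⟩) = crd (v a) := by
    intro a ha haR
    obtain ⟨hb, hbR, e⟩ := (hexRb (hinRb ha haR)).choose_spec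
    show dite _ _ _ = _
    rw [dif_pos (hinRb ha haR), hdet hb ha hbR haR e]
  have hperp : ∀ {a : G}, a ∈ C → a ∈ R → inj (crd (v a)) = v a := fun ha haR => D.v_fix haR ((memC _).mp ha).symm
  have hsurj : ∀ u, ∃ a, ∃ ha : a ∈ C, a ∈ R ∧ vb (mk ⟨a, ha⟩) = u := fun u => by
    obtain ⟨a, ha, hc, hv⟩ := D.exists_fixed u
    exact ⟨a, (memC a).mpr hc.symm, ha, by rw [hvb _ ha, hv, (inj_perp u).2.2]⟩
  have hzero : ∀ {a : G} (ha : a ∈ C), a ∈ R → (crd (v a) = 0 ↔ a = 1 ∨ a = z) := fun {a} ha haR => by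
    rw [← H.zero a haR]
    refine ⟨fun h => by rw [← hperp ha haR, h, base_facts.2.1], fun h => ?_⟩
    rw [h, ← base_facts.2.1, (inj_perp 0).2.2]
  have hzne : mk ⟨z, hzC⟩ ≠ 1 := fun h =>
    H.st.ne_one (hdet hzC (one_mem C) H.z_mem (one_mem R) (h.trans (map_one mk).symm))
  have hordz : orderOf (mk ⟨z, hzC⟩) = 2 := orderOf_eq_prime (by
    rw [← map_pow]
    exact (hmk1 _).mpr (show (z : G) ^ 2 ∈ B from by rw [pow_two, H.st.zz]; exact one_mem B)) hzne
  have hcen : ∀ {a : G} (ha : a ∈ C), a ∈ R → (∀ b, b ∈ C → b ∈ R → b * a = a * b) → a = 1 ∨ a = z := by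
    intro a ha haR h
    refine (hzero ha haR).mp (by
      by_contra hne
      obtain ⟨u, hu⟩ := SuzType.exists_bf _ hne
      obtain ⟨b, hb, hbc, hbv⟩ := D.exists_fixed u
      have h1 := (H.comm a haR b hb).mpr (h b ((memC b).mpr hbc.symm) hb).symm
      rw [← hperp ha haR, hbv, inj_bf, hu] at h1
      exact Bool.false_ne_true h1.symm)
  have hzc : ∀ {y}, y ∈ Rb → Commute y (mk ⟨z, hzC⟩) := fun {y} hy => by
    obtain ⟨a, ha, haR, rfl⟩ := hexRb hy
    exact (show Commute (⟨a, ha⟩ : ↥C) ⟨z, hzC⟩ from Subtype.ext (H.commute_z haR)).map mk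
  have hlift : ∀ {a b : G} (ha : a ∈ C) (hb : b ∈ C), a ∈ R → b ∈ R →
      mk ⟨a, ha⟩ * mk ⟨b, hb⟩ = mk ⟨b, hb⟩ * mk ⟨a, ha⟩ → a * b = b * a := fun ha hb haR hbR h =>
    mul_inv_eq_iff_eq_mul.mp (hconj hb hb ha hbR hbR (mul_inv_eq_iff_eq_mul.mpr h))
  have hcenter : (Subgroup.center Rb).map Rb.subtype = Subgroup.zpowers (mk ⟨z, hzC⟩) := by
    refine le_antisymm ?_ (Subgroup.zpowers_le.mpr
      ⟨⟨_, hinRb hzC H.z_mem⟩, Subgroup.mem_center_iff.mpr fun y => Subtype.ext (hzc y.2).eq, rfl⟩)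
    rintro _ ⟨⟨y, hy⟩, hyc, rfl⟩
    obtain ⟨a, ha, haR, rfl⟩ := hexRb hy
    rcases hcen ha haR (fun b hb hbR => hlift hb ha hbR haR
        (congrArg Subtype.val (Subgroup.mem_center_iff.mp hyc ⟨_, hinRb hb hbR⟩))) with rfl | rfl
    · show mk ⟨1, ha⟩ ∈ _
      rw [show (⟨1, ha⟩ : ↥C) = 1 from rfl, map_one]; exact one_mem _
    · exact Subgroup.mem_zpowers _
  let sec : V6 × Bool → ↥Rb := fun p => ⟨cond p.2 (mk ⟨z, hzC⟩) 1 * mk ⟨_, (hsurj p.1).choose_spec.choose⟩,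
    mul_mem (by cases p.2; exacts [one_mem _, hinRb hzC H.z_mem])
      (hinRb _ (hsurj p.1).choose_spec.choose_spec.1)⟩
  have hcard : Nat.card Rb = 128 := by
    have hsec : Function.Bijective sec := by
      constructor
      · rintro ⟨u, i⟩ ⟨u', i'⟩ e
        have hv : ∀ u i, vb (sec (u, i) : ↥C ⧸ N) = u := by
          intro u i
          obtain ⟨hau, hu⟩ := (hsurj u).choose_spec.choose_spec
          show vb (cond i (mk ⟨z, hzC⟩) 1 * mk ⟨_, _⟩) = u
          cases i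
          · rw [cond_false, one_mul]; exact hu
          · rw [cond_true, ← map_mul]
            show vb (mk ⟨_, _⟩) = u
            rw [hvb _ (mul_mem H.z_mem hau), H.mul _ H.z_mem _ hau, H.v_z, zero_xr, ← hvb _ hau]
            exact hu
        have h1 : u = u' := by rw [← hv u i, e, hv]
        subst h1
        have h2 : cond i (mk ⟨z, hzC⟩) 1 = cond i' (mk ⟨z, hzC⟩) 1 := mul_right_cancel (congrArg Subtype.val e)
        cases i <;> cases i'
        exacts [rfl, absurd h2.symm hzne, absurd h2 hzne, rfl]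
      · rintro ⟨y, hy⟩
        obtain ⟨a, ha, haR, rfl⟩ := hexRb hy
        obtain ⟨hau, hu⟩ := (hsurj (crd (v a))).choose_spec.choose_spec
        rw [hvb _ hau] at hu
        have e : v a = v (hsurj (crd (v a))).choose := by
          rw [← hperp ha haR, ← hu, hperp (hsurj (crd (v a))).choose_spec.choose hau]
          rw [hu]
        rcases H.eq_or haR hau e with e | e
        · refine ⟨(crd (v a), false), Subtype.ext ?_⟩
          show cond false _ 1 * mk ⟨_, _⟩ = mk ⟨a, ha⟩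
          rw [cond_false, one_mul]
          congr 1
          exact Subtype.ext e.symm
        · refine ⟨(crd (v a), true), Subtype.ext ?_⟩
          show cond true _ 1 * mk ⟨_, _⟩ = mk ⟨a, ha⟩
          rw [cond_true, ← map_mul]
          congr 1
          exact Subtype.ext e.symm
    rw [← Nat.card_eq_of_bijective sec hsec, Nat.card_prod, Nat.card_eq_fintype_card, Nat.card_eq_fintype_card]
    rfl
  have hex : Cfsg.IsExtraspecial 2 ↥Rb := by
    have hpg : IsPGroup 2 Rb := IsPGroup.of_card (n := 7) (by rw [hcard]; norm_num)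
    have hzmem : ∀ y : Rb, (y : ↥C ⧸ N) ∈ Subgroup.zpowers (mk ⟨z, hzC⟩) → y ∈ Subgroup.center Rb := by
      intro y hy
      rw [← hcenter] at hy
      obtain ⟨w, hw, e⟩ := hy
      rwa [← Subtype.ext e]
    refine isExtraspecial_of hpg ?_ (fun s t => ?_) (fun s => ?_) ?_
    · rw [← Nat.card_congr (Subgroup.equivMapOfInjective _ Rb.subtype Rb.subtype_injective).symm.toEquiv, hcenter,
        Nat.card_zpowers, hordz]
    · obtain ⟨a, ha, haR, hae⟩ := hexRb s.2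
      obtain ⟨b, hb, hbR, hbe⟩ := hexRb t.2
      refine hzmem _ ?_
      show (s : ↥C ⧸ N) * t * (s : ↥C ⧸ N)⁻¹ * (t : ↥C ⧸ N)⁻¹ ∈ _
      rw [← hae, ← hbe, ← map_inv, ← map_inv, ← map_mul, ← map_mul, ← map_mul]
      change mk ⟨a * b * a⁻¹ * b⁻¹, mul_mem (mul_mem (mul_mem ha hb) (inv_mem ha)) (inv_mem hb)⟩ ∈ _
      rcases H.st.comm_cases haR hbR with e | e
      · rw [(hmk1 _).mpr (show a * b * a⁻¹ * b⁻¹ ∈ B by rw [e, mul_inv_cancel]; exact one_mem B)]
        exact one_mem _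
      · refine Subgroup.mem_zpowers_iff.mpr ⟨1, ?_⟩
        rw [zpow_one]
        congr 1
        exact Subtype.ext (by show z = a * b * a⁻¹ * b⁻¹; rw [e, mul_inv_cancel_right])
    · obtain ⟨a, ha, haR, hae⟩ := hexRb s.2
      refine hzmem _ ?_
      rw [Subgroup.coe_pow, ← hae, ← map_pow]
      rcases H.st.sq_cases haR with e | e
      · rw [(hmk1 (a := a ^ 2) (pow_mem ha 2)).mpr (by rw [pow_two, e]; exact one_mem B) |> fun h => (show mk (⟨a, ha⟩ ^ 2) = 1 from h)]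
        exact one_mem _
      · refine Subgroup.mem_zpowers_iff.mpr ⟨1, ?_⟩
        rw [zpow_one]
        congr 1
        exact Subtype.ext (by show z = a ^ 2; rw [pow_two, e])
    · obtain ⟨a, ha, hc, hv⟩ := D.exists_fixed 1
      obtain ⟨b, hb, hd, hw⟩ := D.exists_fixed 2
      have ha' : a ∈ C := (memC a).mpr hc.symm
      have hb' : b ∈ C := (memC b).mpr hd.symm
      refine ⟨⟨_, hinRb ha' ha⟩, ⟨_, hinRb hb' hb⟩, fun e => ?_⟩
      have h1 := hlift ha' hb' ha hb (congrArg Subtype.val (commutatorElement_eq_one_iff_mul_comm.mp e))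
      rw [← H.comm a ha b hb, hv, hw, inj_bf, no_conflict.2.1] at h1
      exact Bool.false_ne_true h1.symm
  have hcQ : Subgroup.centralizer (Rb : Set (↥C ⧸ N)) = Subgroup.zpowers (mk ⟨z, hzC⟩) := by
    refine le_antisymm (fun y hy => ?_) (Subgroup.zpowers_le.mpr
      (Subgroup.mem_centralizer_iff.mpr fun s hs => (hzc hs).eq))
    obtain ⟨⟨c, hc⟩, rfl⟩ := QuotientGroup.mk'_surjective N y
    have hcomm : ∀ a, ∀ ha : a ∈ C, a ∈ R → c * a * c⁻¹ = a := fun a ha haR =>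
      hconj ha ha hc haR haR (mul_inv_eq_iff_eq_mul.mpr (Subgroup.mem_centralizer_iff.mp hy _ (hinRb ha haR)).symm)
    have hcz' : c * z = z * c := mul_inv_eq_iff_eq_mul.mp (hcomm z hzC H.z_mem)
    obtain ⟨d, n, M, hn, hd, hdz, hdx, hMg, hM1, hM2, hMv⟩ := D.exists_adjust hcz' ((memC c).mp hc)
    have hnB : n ∈ B := hB ▸ hn
    have hnC : n ∈ C := (memC n).mpr (by
      obtain ⟨m, rfl⟩ := Subgroup.mem_zpowers_iff.mp hn
      exact (Commute.refl x).zpow_left m)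
    have hcn : ∀ a, ∀ ha : a ∈ C, a ∈ R → d * a * d⁻¹ = a := fun a ha haR => by
      rw [hd, show c * n * a * (c * n)⁻¹ = c * (n * a * n⁻¹) * c⁻¹ by group, ← (hcommB a ha n hnB).eq,
        mul_inv_cancel_right, hcomm a ha haR]
    have hMid : ∀ w, M w = w := fun w => by
      obtain ⟨a, ha, haR, hau⟩ := hsurj (crd w)
      rw [hvb _ haR] at hau
      have h1 : M (inj (crd w)) = inj (crd w) := by
        rw [← hau, hperp ha haR, ← hMv a haR, hcn a ha haR]
      have hpv : M (pv (bf w sa) (bf w ra)) = pv (bf w sa) (bf w ra) := by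
        cases bf w sa <;> cases bf w ra <;> simp [pv, hM1, hM2]
      conv_lhs => rw [← decomp w, map_add, h1, hpv, decomp]
    have hdR : d ∈ R := H.ker d hdz fun a ha => (hMv a ha).trans (hMid _)
    have hdC : d ∈ C := hd ▸ mul_mem hc hnC
    have hdz' : d = 1 ∨ d = z := hcen hdC hdR fun b hb hbR => (mul_inv_eq_iff_eq_mul.mp (hcn b hb hbR)).symm
    have e : mk ⟨c, hc⟩ = mk ⟨d, hdC⟩ := QuotientGroup.eq.mpr
      (show c⁻¹ * d ∈ B by rw [hd, inv_mul_cancel_left]; exact hnB)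
    rw [e]
    rcases hdz' with rfl | rfl
    · rw [show (⟨1, hdC⟩ : ↥C) = 1 from rfl, map_one]; exact one_mem _
    · exact Subgroup.mem_zpowers _
  have hnorm : Subgroup.centralizer ({mk ⟨z, hzC⟩} : Set (↥C ⧸ N)) ≤ Subgroup.normalizer (Rb : Set (↥C ⧸ N)) := by
    intro y hy
    have hstable : ∀ y' : ↥C ⧸ N, y' * mk ⟨z, hzC⟩ = mk ⟨z, hzC⟩ * y' → ∀ s ∈ Rb, y' * s * y'⁻¹ ∈ Rb := by
      intro y' hy' s hs
      obtain ⟨⟨c, hc⟩, rfl⟩ := QuotientGroup.mk'_surjective N y'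
      obtain ⟨a, ha, haR, rfl⟩ := hexRb hs
      rw [← map_inv, ← map_mul, ← map_mul]
      exact hinRb (mul_mem (mul_mem hc ha) (inv_mem hc)) (H.conj_mem (hcz hc hy') haR)
    have h1 := Subgroup.mem_centralizer_singleton_iff.mp hy
    refine Subgroup.mem_normalizer_iff.mpr fun s => ⟨hstable y h1 s, fun hs => ?_⟩
    have := hstable y⁻¹ (show Commute y _ from h1).inv_left.eq _ hs
    rwa [inv_inv, show y⁻¹ * (y * s * y⁻¹) * y = s by group] at this
  refine ⟨hzC, Rb, vb, ⟨⟨hex, hcenter, hordz, hcQ, hnorm⟩, hcard, ?_, ?_, ?_, ?_, ?_, ?_, ?_, ?_, ?_⟩,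
    fun a ha haR => ⟨hinRb ha haR, hvb ha haR⟩, fun y hy => hexRb hy⟩
  · intro s hs t ht
    obtain ⟨a, ha, haR, rfl⟩ := hexRb hs
    obtain ⟨b, hb, hbR, rfl⟩ := hexRb ht
    rw [← map_mul]
    show vb (mk ⟨a * b, _⟩) = _
    rw [hvb _ (mul_mem haR hbR), hvb _ haR, hvb _ hbR, H.mul a haR b hbR, ← crd_add]
    rfl
  · intro s hs
    obtain ⟨a, ha, haR, rfl⟩ := hexRb hs
    rw [hvb _ haR, hzero ha haR]
    constructor
    · rintro (rfl | rfl)
      · exact Or.inl (by rw [show (⟨1, ha⟩ : ↥C) = 1 from rfl, map_one])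
      · exact Or.inr rfl
    · rintro (e | e)
      · exact Or.inl (hdet ha (one_mem C) haR (one_mem R) (e.trans (map_one mk).symm))
      · exact Or.inr (hdet ha hzC haR H.z_mem e)
  · intro s hs
    obtain ⟨a, ha, haR, rfl⟩ := hexRb hs
    rw [hvb _ haR, ← inj_qf, hperp ha haR, H.sq a haR, ← map_mul]
    constructor
    · intro e
      exact (hmk1 _).mpr (by rw [e]; exact one_mem B)
    · intro e
      exact hdet (mul_mem ha ha) (one_mem C) (mul_mem haR haR) (one_mem R) (e.trans (map_one mk).symm)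
  · intro s hs t ht
    obtain ⟨a, ha, haR, rfl⟩ := hexRb hs
    obtain ⟨b, hb, hbR, rfl⟩ := hexRb ht
    rw [hvb _ haR, hvb _ hbR, ← inj_bf, hperp ha haR, hperp hb hbR, H.comm a haR b hbR]
    exact ⟨fun e => (show Commute (⟨a, ha⟩ : ↥C) ⟨b, hb⟩ from Subtype.ext e).map mk, hlift ha hb haR hbR⟩
  · intro u
    obtain ⟨a, ha, haR, e⟩ := hsurj u
    exact ⟨_, hinRb ha haR, e⟩
  · intro L hL
    obtain ⟨M, hM, hMe⟩ := exists_ext hL
    obtain ⟨c, hcz', hcx, hcv⟩ := D.exists_cent hM (fun w => by rw [hMe, hMe, extF_rot])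
    refine ⟨mk ⟨c, (memC c).mpr hcx⟩, ?_, ?_⟩
    · exact ((show Commute (⟨c, (memC c).mpr hcx⟩ : ↥C) ⟨z, hzC⟩ from Subtype.ext hcz').map mk).eq
    · intro s hs
      obtain ⟨a, ha, haR, rfl⟩ := hexRb hs
      rw [← map_inv, ← map_mul, ← map_mul, hvb _ haR]
      show vb (mk ⟨c * a * c⁻¹, _⟩) = _
      rw [hvb _ (H.conj_mem hcz' haR), hcv a haR, hMe]
      obtain ⟨-, h2, h3, -, -⟩ := split_check (crd (v a)) false false
      rw [← hperp ha haR, (inj_perp _).2.2]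
      conv_lhs => rw [show inj (crd (v a)) = inj (crd (v a)) + pv false false by rw [base_facts.1, add_zero],
        extF_split, (split_check _ _ _).1]
  · intro y hy
    obtain ⟨⟨c, hc⟩, rfl⟩ := QuotientGroup.mk'_surjective N y
    obtain ⟨d, n, M, hn, hd, hdz, hdx, hMg, hM1, hM2, hMv⟩ := D.exists_adjust (hcz hc hy) ((memC c).mp hc)
    have hnB : n ∈ B := hB ▸ hn
    have hdC : d ∈ C := (memC d).mpr hdx
    have e : mk ⟨c, hc⟩ = mk ⟨d, hdC⟩ := QuotientGroup.eq.mpr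
      (show c⁻¹ * d ∈ B by rw [hd, inv_mul_cancel_left]; exact hnB)
    refine ⟨res M, good_res hMg hM1 hM2, fun s hs => ?_⟩
    obtain ⟨a, ha, haR, rfl⟩ := hexRb hs
    rw [e, ← map_inv, ← map_mul, ← map_mul, hvb _ haR, app_res, hperp ha haR]
    show vb (mk ⟨d * a * d⁻¹, _⟩) = _
    rw [hvb _ (H.conj_mem hdz haR), hMv a haR]
  · intro y hy hall
    obtain ⟨⟨c, hc⟩, rfl⟩ := QuotientGroup.mk'_surjective N y
    obtain ⟨d, n, M, hn, hd, hdz, hdx, hMg, hM1, hM2, hMv⟩ := D.exists_adjust (hcz hc hy) ((memC c).mp hc)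
    have hnB : n ∈ B := hB ▸ hn
    have hdC : d ∈ C := (memC d).mpr hdx
    have e : mk ⟨c, hc⟩ = mk ⟨d, hdC⟩ := QuotientGroup.eq.mpr
      (show c⁻¹ * d ∈ B by rw [hd, inv_mul_cancel_left]; exact hnB)
    rw [e] at hall ⊢
    refine hinRb hdC (H.ker d hdz fun a ha => (hMv a ha).trans ?_)
    obtain ⟨b, hb, hbR, hbu⟩ := hsurj (crd (v a))
    rw [hvb _ hbR] at hbu
    have h1 := hall _ (hinRb hb hbR)
    rw [← map_inv, ← map_mul, ← map_mul] at h1
    change vb (mk ⟨d * b * d⁻¹, _⟩) = _ at h1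
    rw [hvb _ (H.conj_mem hdz hbR), hvb _ hbR, hMv b hbR, ← hperp hb hbR, (inj_perp _).2.2, hbu] at h1
    rw [eq_extF hMg hM1 hM2, extF, app_res, h1, decomp]
  · obtain ⟨g, hgx, hgR, hgz⟩ := D.exists_moved
    have hgC : g ∈ C := (memC g).mpr hgx
    have hconjC : g * z * g⁻¹ ∈ C := mul_mem (mul_mem hgC hzC) (inv_mem hgC)
    refine ⟨mk ⟨g, hgC⟩, ?_, fun e => ?_⟩
    · rw [← map_inv, ← map_mul, ← map_mul]
      exact hinRb hconjC hgR
    · rw [← map_inv, ← map_mul, ← map_mul] at e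
      exact hgz (hdet hconjC hzC hgR H.z_mem e)

end CfsgLib.CoOneThree
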